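import Cfsg.Agent.Fus2.SpecSmallLie

/-!
The element orders of `PSp₄(3)`.
-/

set_option autoImplicit false
set_option maxRecDepth 100000

namespace Cfsg.Agent.Fus2.SpecPSp

open Matrix Cfsg Cfsg.Agent.Fus2.SpecLie

abbrev I4 := Fin 2 ⊕ Fin 2

/-- `Y = -J (S - Sᵀ)` satisfies a quadratic. -/
theorem skew_sq {F : Type*} [CommRing F] (S : Matrix I4 I4 F) :
    (-J (Fin 2) F * (S - Sᵀ)) * (-J (Fin 2) F * (S - Sᵀ)) =
      ((-J (Fin 2) F * (S - Sᵀ)) (Sum.inl 0) (Sum.inl 0) +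
          (-J (Fin 2) F * (S - Sᵀ)) (Sum.inl 1) (Sum.inl 1)) • (-J (Fin 2) F * (S - Sᵀ)) -
        ((-J (Fin 2) F * (S - Sᵀ)) (Sum.inl 0) (Sum.inl 0) *
            (-J (Fin 2) F * (S - Sᵀ)) (Sum.inl 1) (Sum.inl 1) -
          (-J (Fin 2) F * (S - Sᵀ)) (Sum.inl 0) (Sum.inl 1) *
            (-J (Fin 2) F * (S - Sᵀ)) (Sum.inl 1) (Sum.inl 0) +
          (-J (Fin 2) F * (S - Sᵀ)) (Sum.inl 0) (Sum.inr 1) *
            (-J (Fin 2) F * (S - Sᵀ)) (Sum.inr 0) (Sum.inl 1)) • (1 : Matrix I4 I4 F) := by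
  have hY : -J (Fin 2) F * (S - Sᵀ) = Matrix.fromBlocks
      (S - Sᵀ).toBlocks₂₁ (S - Sᵀ).toBlocks₂₂ (-(S - Sᵀ).toBlocks₁₁) (-(S - Sᵀ).toBlocks₁₂) := by
    conv_lhs => rw [← Matrix.fromBlocks_toBlocks (S - Sᵀ), Matrix.J, Matrix.fromBlocks_neg,
      Matrix.fromBlocks_multiply]
    simp
  rw [hY]
  ext i j
  rcases i with i | i <;> rcases j with j | j <;> fin_cases i <;> fin_cases j <;>
    simp [Matrix.mul_apply, Fintype.sum_sum_type, Fin.sum_univ_two, Matrix.toBlocks₁₁,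
      Matrix.toBlocks₁₂, Matrix.toBlocks₂₁, Matrix.toBlocks₂₂] <;> ring

/-- A symplectic matrix satisfies a palindromic quartic. -/
theorem quartic {F : Type*} [CommRing F] (g : Matrix.symplecticGroup (Fin 2) F) :
    ∃ a c : F, (g : Matrix I4 I4 F) ^ 4 = a • (g : Matrix I4 I4 F) ^ 3 +
      (-(2 + c)) • (g : Matrix I4 I4 F) ^ 2 + a • (g : Matrix I4 I4 F) +
        (-1 : F) • (1 : Matrix I4 I4 F) := by
  set A := (g : Matrix I4 I4 F) with hA
  set B := ((g⁻¹ : Matrix.symplecticGroup (Fin 2) F) : Matrix I4 I4 F) with hB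
  have hAB : A * B = 1 := by
    rw [hA, hB, ← Submonoid.coe_mul, mul_inv_cancel, Submonoid.coe_one]
  have hBA : B * A = 1 := by
    rw [hA, hB, ← Submonoid.coe_mul, inv_mul_cancel, Submonoid.coe_one]
  have hY : A + B = -J (Fin 2) F * (J (Fin 2) F * A - (J (Fin 2) F * A)ᵀ) := by
    rw [hB, SymplecticGroup.coe_inv, ← hA, Matrix.mul_sub, neg_mul, neg_mul, neg_mul,
      ← mul_assoc (J (Fin 2) F) (J (Fin 2) F) A, Matrix.J_squared, Matrix.transpose_mul,
      Matrix.J_transpose]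
    simp [mul_assoc, sub_eq_add_neg]
  have h := skew_sq (J (Fin 2) F * A)
  rw [← hY] at h
  generalize (A + B) (Sum.inl 0) (Sum.inl 0) + (A + B) (Sum.inl 1) (Sum.inl 1) = a at h
  generalize (A + B) (Sum.inl 0) (Sum.inl 0) * (A + B) (Sum.inl 1) (Sum.inl 1) -
    (A + B) (Sum.inl 0) (Sum.inl 1) * (A + B) (Sum.inl 1) (Sum.inl 0) +
    (A + B) (Sum.inl 0) (Sum.inr 1) * (A + B) (Sum.inr 0) (Sum.inl 1) = c at h
  refine ⟨a, c, ?_⟩
  have h2 := congrArg (fun M => A * M * A) h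
  simp only [mul_add, add_mul, mul_sub, sub_mul, mul_smul_comm, smul_mul_assoc, mul_one,
    ← mul_assoc, hAB, one_mul] at h2
  simp only [mul_assoc, hAB, hBA, mul_one, one_mul] at h2
  simp only [← mul_assoc] at h2
  rw [show A ^ 4 = A * A * A * A by simp [pow_succ, mul_assoc],
    show A ^ 3 = A * A * A by simp [pow_succ, mul_assoc], pow_two]
  linear_combination (norm := module) h2

/-- Coefficients of `Xⁿ` modulo a palindromic quartic. -/
def coef (a c : ZMod 3) : ℕ → ZMod 3 × ZMod 3 × ZMod 3 × ZMod 3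
  | 0 => (0, 0, 0, 1)
  | n + 1 =>
    let t := coef a c n
    (t.1 * a + t.2.1, t.1 * -(2 + c) + t.2.2.1, t.1 * a + t.2.2.2, t.1 * -1)

theorem coef_table : ∀ a c : ZMod 3, ∃ n : Fin 3,
    coef a c ([5, 9, 12][(n : ℕ)]?.getD 0) = (0, 0, 0, 1) ∨
      coef a c ([5, 9, 12][(n : ℕ)]?.getD 0) = (0, 0, 0, 2) := by decide +kernel

def wit : Fin 3 → Matrix I4 I4 (ZMod 3)
  | 0 => Matrix.fromBlocks !![0, 0; 1, 0] !![0, 1; 2, 2] !![0, 2; 2, 0] !![1, 0; 2, 1]
  | 1 => Matrix.fromBlocks !![0, 0; 1, 0] !![0, 1; 0, 2] !![0, 2; 0, 0] !![1, 0; 1, 0]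
  | 2 => Matrix.fromBlocks !![0, 0; 1, 0] !![0, 1; 0, 2] !![0, 2; 2, 0] !![1, 0; 1, 1]

theorem wit_mem : ∀ i, wit i * J (Fin 2) (ZMod 3) * (wit i)ᵀ = J (Fin 2) (ZMod 3) := by
  decide +kernel

theorem wit_pow : ∀ i : Fin 3, wit i ^ ([5, 9, 12][(i : ℕ)]?.getD 0) = 1 := by decide +kernel

theorem wit_noncentral : ∀ i : Fin 3, ∀ k : Fin 12, 0 < (k : ℕ) →
    (k : ℕ) < [5, 9, 12][(i : ℕ)]?.getD 0 →
    ∃ j : Fin 3, wit j * wit i ^ (k : ℕ) ≠ wit i ^ (k : ℕ) * wit j := by decide +kernel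

/-- The element orders of `PSp₄(3)`. -/
theorem range_psp {F : Type*} [Field F] [Fintype F] (hF : Fintype.card F = 3) :
    Set.range (orderOf : Cfsg.PSp 2 F → ℕ) = {d | ∃ n ∈ [5, 9, 12], d ∣ n} := by
  haveI : Fact (Nat.Prime 3) := ⟨Nat.prime_three⟩
  haveI : CharP F 3 := charP_three (k := 1) (by rw [hF, pow_one])
  set φ := ZMod.castHom (dvd_refl 3) F with hφ
  refine range_eq_of ?_ ?_
  · intro x
    obtain ⟨g, rfl⟩ := QuotientGroup.mk'_surjective _ x
    obtain ⟨a', c', h4⟩ := quartic g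
    obtain ⟨a, rfl⟩ := castHom_surjective hF a'
    obtain ⟨c, rfl⟩ := castHom_surjective hF c'
    obtain ⟨i, hi⟩ := coef_table a c
    refine ⟨[5, 9, 12][(i : ℕ)]?.getD 0, ?_, ?_⟩
    · clear hi; revert i; decide
    · rw [← map_pow, QuotientGroup.mk'_apply, QuotientGroup.eq_one_iff, Subgroup.mem_center_iff]
      intro y
      obtain ⟨r, hr⟩ : ∃ r : F, ((g ^ ([5, 9, 12][(i : ℕ)]?.getD 0) :
          Matrix.symplecticGroup (Fin 2) F) : Matrix I4 I4 F) = r • (1 : Matrix I4 I4 F) := by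
        rw [SubmonoidClass.coe_pow]
        have key : ∀ m, (g : Matrix I4 I4 F) ^ m = φ (coef a c m).1 • (g : Matrix I4 I4 F) ^ 3 +
            φ (coef a c m).2.1 • (g : Matrix I4 I4 F) ^ 2 +
            φ (coef a c m).2.2.1 • (g : Matrix I4 I4 F) +
            φ (coef a c m).2.2.2 • (1 : Matrix I4 I4 F) := by
          intro m
          induction m with
          | zero => simp [coef]
          | succ m ih =>
            rw [pow_succ, ih]
            simp only [coef, map_add, map_mul, map_neg, map_ofNat, map_one, add_mul,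
              smul_mul_assoc, one_mul, ← pow_succ, ← pow_two]
            rw [h4]
            module
        rw [key]
        refine ⟨φ (coef a c ([5, 9, 12][(i : ℕ)]?.getD 0)).2.2.2, ?_⟩
        rcases hi with hi | hi <;> rw [hi] <;> simp only [map_zero, zero_smul, zero_add]
      refine Subtype.ext ?_
      rw [Submonoid.coe_mul, Submonoid.coe_mul, hr, mul_smul_comm, smul_mul_assoc, mul_one, one_mul]
  · intro n hn
    obtain ⟨i, rfl⟩ : ∃ i : Fin 3, [5, 9, 12][(i : ℕ)]?.getD 0 = n := by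
      simp only [List.mem_cons, List.not_mem_nil, or_false] at hn
      rcases hn with rfl | rfl | rfl
      exacts [⟨0, rfl⟩, ⟨1, rfl⟩, ⟨2, rfl⟩]
    have hJ : φ.mapMatrix (J (Fin 2) (ZMod 3)) = J (Fin 2) F := by
      ext r s
      rcases r with r | r <;> rcases s with s | s <;> simp [Matrix.J, Matrix.one_apply, apply_ite φ]
    let M : Fin 3 → Matrix.symplecticGroup (Fin 2) F := fun j =>
      ⟨φ.mapMatrix (wit j), SymplecticGroup.mem_iff.mpr (by
        rw [← hJ, RingHom.mapMatrix_apply, RingHom.mapMatrix_apply, ← Matrix.transpose_map,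
          ← Matrix.map_mul, ← Matrix.map_mul, wit_mem])⟩
    have hM : ∀ j k, ((M j ^ k : Matrix.symplecticGroup (Fin 2) F) : Matrix I4 I4 F) =
        φ.mapMatrix (wit j ^ k) := fun j k => by
      rw [SubmonoidClass.coe_pow, map_pow]
    have hinj : Function.Injective (φ.mapMatrix (m := I4)) := fun A B h => by
      ext r s
      exact RingHom.injective φ (congrFun (congrFun h r) s)
    refine ⟨QuotientGroup.mk' _ (M i), orderOf_mk ?_ ?_ ?_, ?_⟩
    · revert i; decide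
    · refine Subtype.ext ((hM i _).trans ?_)
      rw [wit_pow, map_one]; rfl
    · intro k hk0 hk
      have hk12 : k < 12 := by
        have : ∀ i : Fin 3, [5, 9, 12][(i : ℕ)]?.getD 0 ≤ 12 := by decide
        exact hk.trans_le (this i)
      obtain ⟨j, hj⟩ := wit_noncentral i ⟨k, hk12⟩ hk0 hk
      refine ⟨M j, fun e => hj (hinj ?_)⟩
      have e' := congrArg Subtype.val e
      simp only [Submonoid.coe_mul, hM] at e'
      rw [map_mul, map_mul]
      exact e'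
    · revert i; decide

end Cfsg.Agent.Fus2.SpecPSp
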