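import Cfsg.Prelude.Def_FusionSystem
import Cfsg.Prelude.Def_PLocal
import Cfsg.Agent.Lib.Fusion.Normal
import Cfsg.Agent.Lib.Transfer.Focal

/-!
# The Frattini argument inside automorphism groups of a fusion system

`frattini_step`: at a fully normalized `E`, an automorphism is an element of a normal subgroup `K`
times the restriction of a map defined on a larger subgroup, as soon as some element of
`N_S(E) \ E` induces an element of `K`.
`descending`: Alperin induction where the base case may use all maps with larger source.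
-/

set_option autoImplicit false
set_option linter.style.haveILetI false

namespace Cfsg.Agent.Fus2

open Cfsg Cfsg.Agent.Fusion
open Cfsg.FusionSystem (normalizerIn centralizerIn)

universe u

variable {Ω : Type u} [Group Ω] {S : Subgroup Ω} {F : FusionSystem S} {p : ℕ}

theorem frattini_step [Finite S] [Fact p.Prime] (hS : IsPGroup p S) (hF : F.IsSaturated p)
    {E : Subgroup Ω} (hEn : F.IsFullyNormalized E) (K : Subgroup (F.autGroup E)) [K.Normal]
    {g : Ω} (hg : g ∈ normalizerIn S E) (hgE : g ∉ E)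
    (hgK : ∀ γ : F.autGroup E, (∀ x : E, (((γ : MulAut E) x : E) : Ω) = g * x * g⁻¹) → γ ∈ K)
    (α : F.autGroup E) :
    ∃ k ∈ K, ∃ (P : Subgroup Ω) (f : Ω → Ω), Nat.card E < Nat.card P ∧ E ≤ P ∧ IsMap F P f ∧
      (∀ x ∈ E, f x ∈ E) ∧
      ∀ x ∈ E, autFun (α : MulAut E) x = autFun ((k : F.autGroup E) : MulAut E) (f x) := by
  classical
  have hES := hEn.1
  haveI := finite_of_le hES
  haveI := finite_mulAut E
  obtain ⟨R, hR⟩ := (fullyAutomized_of_fullyNormalized hS hF hEn).2
  obtain ⟨Q, hQ⟩ := Transfer.exists_sylow_subgroupOf_normal R K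
  have htop : Subgroup.normalizer (((Q : Subgroup K).map K.subtype) : Set (F.autGroup E)) ⊔ K = ⊤ :=
    Sylow.normalizer_sup_eq_top Q
  have hQR : (Q : Subgroup K).map K.subtype = (R : Subgroup (F.autGroup E)) ⊓ K := by
    rw [hQ, Subgroup.subgroupOf_map_subtype]
  rw [hQR] at htop
  have hα : α ∈ K ⊔ Subgroup.normalizer
      (((R : Subgroup (F.autGroup E)) ⊓ K : Subgroup (F.autGroup E)) : Set (F.autGroup E)) := by
    rw [sup_comm, htop]; exact Subgroup.mem_top _
  obtain ⟨k, hk, δ, hδ, hkδ⟩ := Subgroup.mem_sup_of_normal_left.1 hα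
  have hiso := (mem_autGroup hES).1 δ.2
  -- the extendable subgroup
  let φ : ↥(normalizerIn S E) →* F.autGroup E :=
    (conjAutHom S E).codRestrict (F.autGroup E) fun a =>
      autInducedBy_le_autGroup hES (by rw [← range_conjAutHom]; exact ⟨a, rfl⟩)
  let M : Subgroup Ω := (K.comap φ).map (normalizerIn S E).subtype
  have hM : IsExtendable S E (autFun (δ : MulAut E)) M := by
    refine ⟨(Subgroup.map_subtype_le _).trans (normalizerIn_le S E), ?_⟩
    rintro _ ⟨a, ha, rfl⟩
    refine ⟨a.2.2, ?_⟩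
    have hmem : φ a ∈ (R : Subgroup (F.autGroup E)) ⊓ K := by
      refine ⟨?_, ha⟩
      show φ a ∈ (R : Subgroup (F.autGroup E))
      rw [hR, Subgroup.mem_subgroupOf, ← range_conjAutHom]
      exact ⟨a, rfl⟩
    have hc : δ * φ a * δ⁻¹ ∈ (R : Subgroup (F.autGroup E)) :=
      ((Subgroup.mem_normalizer_iff.1 hδ _).1 hmem).1
    rw [hR, Subgroup.mem_subgroupOf, mem_autInducedBy] at hc
    obtain ⟨h, hh, hhx⟩ := hc
    refine ⟨h, hh, fun z hz => ?_⟩
    have h2 := hhx ((δ : MulAut E) ⟨z, hz⟩)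
    simp only [Subgroup.coe_mul, Subgroup.coe_inv, MulAut.mul_apply, MulAut.inv_apply_self] at h2
    show autFun (δ : MulAut E) ((a : Ω) * z * (a : Ω)⁻¹) = _
    rw [autFun_of_mem _ hz, autFun_of_mem _ (conj_mem_of_mem_normalizer a.2.2 hz), ← h2]
    congr 2
  obtain ⟨f, hf, hfe⟩ := receptive_extend (receptive_of_fullyNormalized hS hF hEn) hiso hM
  have hgM : g ∈ M := ⟨⟨g, hg⟩, hgK _ (fun x => rfl), rfl⟩
  haveI : Finite ↥(E ⊔ M) := finite_of_le hf.dom_le
  refine ⟨k, hk, E ⊔ M, f, ?_, le_sup_left, hf, fun x hx => ?_, fun x hx => ?_⟩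
  · by_contra hle
    have := Subgroup.eq_of_le_of_card_ge (le_sup_left : E ≤ E ⊔ M) (not_lt.1 hle)
    exact hgE (this.ge (Subgroup.mem_sup_right hgM))
  · rw [hfe hx, autFun_of_mem _ hx]
    exact Subtype.mem _
  · rw [hfe hx, ← hkδ, Subgroup.coe_mul, autFun_mul _ _ hx, Function.comp_apply]

/-- Alperin induction descending on the order of the source. -/
theorem descending [Finite S] [Fact p.Prime] (hS : IsPGroup p S) (hF : F.IsSaturated p)
    (C : Subgroup Ω → (Ω → Ω) → Prop)
    (hcongr : ∀ P f g, C P f → Set.EqOn f g (P : Set Ω) → C P g)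
    (hcomp : ∀ P Q f g, IsIso F P Q f → IsMap F Q g → C P f → C Q g → C P (g ∘ f))
    (hmono : ∀ P Q f, IsMap F Q f → P ≤ Q → C Q f → C P f)
    (htop : ∀ f, IsIso F S S f → C S f)
    (hbase : ∀ E, F.IsCentric E → F.IsRadical p E → F.IsFullyNormalized E → E < S →
      (∀ (P : Subgroup Ω) (f : Ω → Ω), Nat.card E < Nat.card P → IsMap F P f → C P f) → ∀ f, IsIso F E E f → C E f) :
    ∀ P f, IsMap F P f → C P f := by
  suffices H : ∀ d P f, IsMap F P f → Nat.card S ≤ Nat.card P + d → C P f from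
    fun P f hf => H (Nat.card S) P f hf (Nat.le_add_left _ _)
  intro d
  induction d using Nat.strong_induction_on with
  | _ d IH =>
  refine alperin_induction_cr hS hF (fun P f => Nat.card S ≤ Nat.card P + d → C P f) ?_ ?_ ?_ ?_
  · intro P f g h he hd
    exact hcongr P f g (h hd) he
  · intro P Q f g hf hg h1 h2 hd
    exact hcomp P Q f g hf hg (h1 hd) (h2 (hf.card_eq ▸ hd))
  · intro P Q f hf hle h hd
    haveI : Finite Q := finite_of_le hf.dom_le
    exact hmono P Q f hf hle (h (hd.trans (by have := Subgroup.card_le_of_le hle; omega)))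
  · intro E hc hr hEn f hf hd
    rcases eq_or_lt_of_le hEn.1 with rfl | hlt
    · exact htop f hf
    refine hbase E hc hr hEn hlt (fun P g hlt' hg => IH (Nat.card S - Nat.card P) ?_ P g hg ?_) f hf
    · have h1 : Nat.card P ≤ Nat.card S := Subgroup.card_le_of_le hg.dom_le
      omega
    · omega

/-- Some element of `T ∩ N(E)` outside `E` has its `p`-th power in `E`. -/
theorem exists_pow_mem [Fact p.Prime] (hS : IsPGroup p S) {E : Subgroup Ω}
    {a : Ω} (ha : a ∈ S) (haE : a ∉ E) :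
    ∃ i : ℕ, a ^ i ∉ E ∧ (a ^ i) ^ p ∈ E := by
  obtain ⟨k, hk⟩ := hS ⟨a, ha⟩
  have hk' : a ^ p ^ k = 1 := by simpa using congrArg Subtype.val hk
  by_contra hcon
  push Not at hcon
  have : ∀ j : ℕ, a ^ p ^ j ∉ E := by
    intro j
    induction j with
    | zero => simpa using haE
    | succ j ih => rw [pow_succ, pow_mul]; exact hcon _ ih
  exact this k (hk' ▸ E.one_mem)

/-- The centre of a subgroup, inside the ambient group. -/
def zIn (E : Subgroup Ω) : Subgroup Ω := E ⊓ Subgroup.centralizer (E : Set Ω)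

theorem zIn_le (E : Subgroup Ω) : zIn E ≤ E := inf_le_left

theorem zIn_map_mem {E Q : Subgroup Ω} {f : Ω → Ω} (hf : IsIso F E Q f) {x : Ω} (hx : x ∈ zIn E) :
    f x ∈ zIn Q := by
  refine ⟨hf.mem hx.1, Subgroup.mem_centralizer_iff.2 fun y hy => ?_⟩
  obtain ⟨z, hz, rfl⟩ := hf.exists_preimage hy
  rw [← hf.1.map_mul hz hx.1, ← hf.1.map_mul hx.1 hz, Subgroup.mem_centralizer_iff.1 hx.2 z hz]

theorem powerClosure_mono {H K : Subgroup Ω} (n : ℕ) (h : H ≤ K) :
    powerClosure p n H ≤ powerClosure p n K :=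
  Subgroup.closure_mono fun _ ⟨x, hx, e⟩ => ⟨x, h hx, e⟩

theorem powerClosure_le (n : ℕ) (H : Subgroup Ω) : powerClosure p n H ≤ H :=
  (Subgroup.closure_le _).2 fun _ ⟨x, hx, e⟩ => e ▸ H.pow_mem hx _

theorem powerClosure_map_mem {P W W' : Subgroup Ω} {f : Ω → Ω} (hf : IsMap F P f) (hW : W ≤ P)
    (n : ℕ) (h : ∀ w ∈ W, f w ∈ W') {x : Ω} (hx : x ∈ powerClosure p n W) :
    f x ∈ powerClosure p n W' := by
  have hle : powerClosure p n W ≤ P := (powerClosure_le n W).trans hW
  induction hx using Subgroup.closure_induction with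
  | mem y hy =>
    obtain ⟨w, hw, rfl⟩ := hy
    exact Subgroup.subset_closure ⟨f w, h w hw, by rw [hf.map_pow (hW hw)]⟩
  | one => rw [hf.map_one]; exact one_mem _
  | mul a b ha hb h1 h2 => rw [hf.map_mul (hle ha) (hle hb)]; exact mul_mem h1 h2
  | inv a ha h1 => rw [hf.map_inv (hle ha)]; exact inv_mem h1

/-- The automorphisms of `E` in the system fixing `W` pointwise. -/
def fixAut (F : FusionSystem S) (E W : Subgroup Ω) (hW : W ≤ E) : Subgroup (F.autGroup E) where
  carrier := {α | ∀ x : E, (x : Ω) ∈ W → (α : MulAut E) x = x}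
  one_mem' := fun x _ => rfl
  mul_mem' {α β} ha hb x hx := by
    show (α : MulAut E) ((β : MulAut E) x) = x
    rw [hb x hx, ha x hx]
  inv_mem' {α} ha x hx := by
    show ((α : MulAut E))⁻¹ x = x
    conv_lhs => rw [← ha x hx]
    exact MulAut.inv_apply_self _ _ _

theorem fixAut_normal {E W : Subgroup Ω} (hES : E ≤ S) (hW : W ≤ E)
    (hinv : ∀ f, IsIso F E E f → ∀ x ∈ W, f x ∈ W) : (fixAut F E W hW).Normal := by
  refine ⟨fun α ha δ x hx => ?_⟩
  have h1 := hinv _ ((mem_autGroup hES).1 (δ⁻¹).2) x hx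
  rw [autFun_of_mem _ x.2] at h1
  show (δ : MulAut E) ((α : MulAut E) (((δ⁻¹ : F.autGroup E) : MulAut E) x)) = x
  rw [ha _ h1]
  exact MulAut.apply_inv_self _ _ _

theorem fixAut_apply {E W : Subgroup Ω} {hW : W ≤ E} {k : F.autGroup E} (hk : k ∈ fixAut F E W hW)
    {x : Ω} (hx : x ∈ W) : autFun (k : MulAut E) x = x := by
  rw [autFun_of_mem _ (hW hx), hk ⟨x, hW hx⟩ hx]

end Cfsg.Agent.Fus2
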