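import Mathlib

/-!
Two permutation involutions with equally many fixed points have a common "odd product neighbour",
unless they form a single alternating four-cycle.
-/

set_option autoImplicit false

open Function Finset
open scoped Classical

noncomputable section

namespace Cfsg.Agent.OddProdSn

variable {α : Type*}

/-- `v` returns after an odd number of steps. -/
def OP (f : α → α) (v : α) : Prop := ∃ N, Odd N ∧ f^[N] v = v

lemma OP.of_fix {f : α → α} {v : α} (h : f v = v) : OP f v := ⟨1, odd_one, h⟩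

lemma OP.apply {f : α → α} {v : α} (h : OP f v) : OP f (f v) := by
  obtain ⟨N, hN, e⟩ := h
  exact ⟨N, hN, by rw [← iterate_succ_apply, iterate_succ_apply', e]⟩

lemma OP.step {f : α → α} {v w : α} (h : OP f v) (e : f v = w) : OP f w := e ▸ h.apply

lemma OP.iter {f : α → α} {v : α} (h : OP f v) : ∀ i, OP f (f^[i] v)
  | 0 => h
  | i + 1 => by rw [iterate_succ_apply']; exact (OP.iter h i).apply

lemma seg {f g : α → α} {w : α} :
    ∀ L, (∀ i < L, g (f^[i] w) = f^[i + 1] w) → g^[L] w = f^[L] w := by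
  intro L
  induction L with
  | zero => intro _; rfl
  | succ L ih =>
    intro h
    rw [iterate_succ_apply', ih fun i hi => h i (by omega), h L (by omega)]

lemma sim {g f : α → α} {W : Finset α} (hW : ∀ u ∈ W, f u ∈ W)
    (h : ∀ u ∈ W, ∃ M, Odd M ∧ g^[M] u = f u) {w : α} (hw : w ∈ W) (hop : OP f w) : OP g w := by
  obtain ⟨N, hN, e⟩ := hop
  have key : ∀ i, f^[i] w ∈ W ∧ ∃ M, M % 2 = i % 2 ∧ g^[M] w = f^[i] w := by
    intro i
    induction i with
    | zero => exact ⟨hw, 0, rfl, rfl⟩
    | succ i ih =>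
      obtain ⟨hm, M, hM, hg⟩ := ih
      obtain ⟨K, hK, hgK⟩ := h _ hm
      rw [iterate_succ_apply']
      refine ⟨hW _ hm, K + M, ?_, by rw [iterate_add_apply, hg, hgK]⟩
      obtain ⟨c, rfl⟩ := hK
      omega
  obtain ⟨-, M, hM, hg⟩ := key N
  refine ⟨M, ?_, by rw [hg, e]⟩
  rw [Nat.odd_iff] at hN ⊢
  omega

/-- invariance under both involutions -/
def Inv2 (x y : α → α) (U : Finset α) : Prop := ∀ u ∈ U, x u ∈ U ∧ y u ∈ U

/-- balanced invariant set -/
def Bal (x y : α → α) (U : Finset α) : Prop :=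
  Inv2 x y U ∧ (U.filter fun u => x u = u).card = (U.filter fun u => y u = u).card

/-- a common neighbour on `U` -/
structure Sol (x y : α → α) (U : Finset α) (z : α → α) : Prop where
  mem : ∀ u ∈ U, z u ∈ U
  inv : ∀ u ∈ U, z (z u) = u
  opx : ∀ u ∈ U, OP (x ∘ z) u
  opy : ∀ u ∈ U, OP (y ∘ z) u
  card : (U.filter fun u => z u = u).card = (U.filter fun u => x u = u).card

variable {x y : α → α}

lemma Inv2.sdiff (hx : Involutive x) (hy : Involutive y) {T U : Finset α} (hU : Inv2 x y U)
    (hT : Inv2 x y T) : Inv2 x y (U \ T) := by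
  intro u hu
  rw [mem_sdiff] at hu
  refine ⟨mem_sdiff.2 ⟨(hU u hu.1).1, fun h => hu.2 ?_⟩, mem_sdiff.2 ⟨(hU u hu.1).2, fun h => hu.2 ?_⟩⟩
  · exact hx u ▸ (hT _ h).1
  · exact hy u ▸ (hT _ h).2

lemma Bal.sdiff (hx : Involutive x) (hy : Involutive y) {T U : Finset α} (hU : Bal x y U)
    (hT : Bal x y T) (hTU : T ⊆ U) : Bal x y (U \ T) := by
  refine ⟨hU.1.sdiff hx hy hT.1, ?_⟩
  have e := hU.2
  rw [← union_sdiff_of_subset hTU, filter_union, filter_union,
    card_union_of_disjoint (disjoint_filter_filter disjoint_sdiff),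
    card_union_of_disjoint (disjoint_filter_filter disjoint_sdiff), hT.2] at e
  omega

lemma Sol.union {T W : Finset α} {z₁ z₂ : α → α} (h₁ : Sol x y T z₁) (h₂ : Sol x y W z₂)
    (hT : Inv2 x y T) (hW : Inv2 x y W) (hd : Disjoint T W) :
    Sol x y (T ∪ W) (fun u => if u ∈ T then z₁ u else z₂ u) := by
  have hW' : ∀ u ∈ W, u ∉ T := fun u hu h => disjoint_left.1 hd h hu
  constructor
  · intro u hu
    rcases mem_union.1 hu with h | h
    · simp [h, h₁.mem u h]
    · simp [hW' u h, h₂.mem u h]
  · intro u hu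
    rcases mem_union.1 hu with h | h
    · simp [h, h₁.mem u h, h₁.inv u h]
    · simp [hW' u h, hW' _ (h₂.mem u h), h₂.inv u h]
  · intro u hu
    rcases mem_union.1 hu with h | h
    · exact sim (W := T) (fun v hv => (hT _ (h₁.mem v hv)).1)
        (fun v hv => ⟨1, odd_one, by simp [hv]⟩) h (h₁.opx u h)
    · exact sim (W := W) (fun v hv => (hW _ (h₂.mem v hv)).1)
        (fun v hv => ⟨1, odd_one, by simp [hW' v hv]⟩) h (h₂.opx u h)
  · intro u hu
    rcases mem_union.1 hu with h | h
    · exact sim (W := T) (fun v hv => (hT _ (h₁.mem v hv)).2)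
        (fun v hv => ⟨1, odd_one, by simp [hv]⟩) h (h₁.opy u h)
    · exact sim (W := W) (fun v hv => (hW _ (h₂.mem v hv)).2)
        (fun v hv => ⟨1, odd_one, by simp [hW' v hv]⟩) h (h₂.opy u h)
  · rw [filter_union, filter_union, card_union_of_disjoint (disjoint_filter_filter hd),
      card_union_of_disjoint (disjoint_filter_filter hd), ← h₁.card, ← h₂.card]
    congr 1
    · congr 1; exact filter_congr fun u hu => by simp [hu]
    · congr 1; exact filter_congr fun u hu => by simp [hW' u hu]

/-! ### the product `p = y ∘ x` -/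

/-- `y ∘ x` -/
def pp (x y : α → α) (u : α) : α := y (x u)

lemma pp_inj (hx : Involutive x) (hy : Involutive y) : Injective (pp x y) :=
  hy.injective.comp hx.injective

lemma pp_x_pp (hx : Involutive x) (hy : Involutive y) (u : α) : pp x y (x (pp x y u)) = x u := by
  simp only [pp, hx (y (x u)), hy (x u)]

lemma it_x_it (hx : Involutive x) (hy : Involutive y) (u : α) :
    ∀ i, (pp x y)^[i] (x ((pp x y)^[i] u)) = x u := by
  intro i
  induction i with
  | zero => rfl
  | succ i ih => rw [iterate_succ_apply, iterate_succ_apply', pp_x_pp hx hy, ih]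

lemma y_eq (hx : Involutive x) (u : α) : y u = pp x y (x u) := by simp [pp, hx u]

/-! ### alternating four-cycles -/

/-- `v` lies on an alternating four-cycle -/
def C4 (x y : α → α) (v : α) : Prop :=
  pp x y (pp x y v) = v ∧ pp x y v ≠ v ∧ x v ≠ v ∧ x v ≠ pp x y v

/-- its four points -/
def T4 (x y : α → α) (v : α) : Finset α := {v, x v, pp x y v, x (pp x y v)}

lemma T4_card_le (v : α) : (T4 x y v).card ≤ 4 := Finset.card_le_four

lemma C4.facts (hx : Involutive x) (hy : Involutive y) {v : α} (h : C4 x y v) :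
    (y v = x (pp x y v) ∧ y (x v) = pp x y v ∧ y (pp x y v) = x v ∧ y (x (pp x y v)) = v) ∧
      x (pp x y v) ≠ v ∧ x (pp x y v) ≠ x v ∧ x (pp x y v) ≠ pp x y v := by
  obtain ⟨h1, h2, h3, h4⟩ := h
  refine ⟨⟨?_, rfl, ?_, h1⟩, ?_, fun e => h2 (hx.injective e), ?_⟩
  · conv_lhs => rw [← h1]
    exact hy _
  · exact hy _
  · intro e; exact h4 ((congrArg x e).symm.trans (hx _))
  · intro e
    have := pp_x_pp hx hy v
    rw [e, h1] at this
    exact h3 this.symm

lemma C4.bal (hx : Involutive x) (hy : Involutive y) {v : α} (h : C4 x y v) :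
    Bal x y (T4 x y v) := by
  obtain ⟨⟨y0, y1, y2, y3⟩, d1, d2, d3⟩ := h.facts hx hy
  obtain ⟨h1, h2, h3, h4⟩ := h
  refine ⟨?_, ?_⟩
  · intro u hu
    simp only [T4, mem_insert, mem_singleton] at hu ⊢
    rcases hu with e | e | e | e <;> rw [e] <;>
      simp [hx v, hx (pp x y v), y0, y1, y2, y3]
  · rw [filter_eq_empty_iff.2, filter_eq_empty_iff.2]
    · intro u hu
      simp only [T4, mem_insert, mem_singleton] at hu
      rcases hu with e | e | e | e <;> rw [e] <;> simp only [y0, y1, y2, y3]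
      · exact d1
      · exact fun e => h4 e.symm
      · exact h4
      · exact d1.symm
    · intro u hu
      simp only [T4, mem_insert, mem_singleton] at hu
      rcases hu with e | e | e | e <;> rw [e] <;> (try simp only [hx v, hx (pp x y v)])
      · exact h3
      · exact h3.symm
      · exact d3
      · exact d3.symm

/-- four-cycle plus a fixed point of a solution -/
lemma insert_fixed (hx : Involutive x) (hy : Involutive y) {v w : α} (h : C4 x y v) {W : Finset α}
    (hd : Disjoint (T4 x y v) W) (hW : Inv2 x y W) {z₀ : α → α} (hz : Sol x y W z₀)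
    (hw : w ∈ W) (hwz : z₀ w = w) : ∃ z, Sol x y (T4 x y v ∪ W) z := by
  have hb := h.bal hx hy
  obtain ⟨⟨y0, y1, y2, y3⟩, d1, d2, d3⟩ := h.facts hx hy
  obtain ⟨h1, h2, h3, h4⟩ := h
  have nW : ∀ u ∈ W, u ≠ v ∧ u ≠ x v ∧ u ≠ pp x y v ∧ u ≠ x (pp x y v) := by
    intro u hu
    have := disjoint_right.1 hd hu
    simpa [T4] using this
  obtain ⟨w0, w1, w2, w3⟩ := nW w hw
  let z : α → α := fun u => if u = x v then pp x y v else if u = pp x y v then x v
    else if u = x (pp x y v) then w else if u = w then x (pp x y v) else if u = v then v else z₀ u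
  have zo0 : z (x v) = pp x y v := by simp [z]
  have ze1 : z (pp x y v) = x v := by simp [z, Ne.symm h4]
  have zo1 : z (x (pp x y v)) = w := by simp [z, d2, d3]
  have zw : z w = x (pp x y v) := by simp [z, w1, w2, w3]
  have ze0 : z v = v := by simp [z, Ne.symm h3, Ne.symm h2, Ne.symm d1, Ne.symm w0]
  have zW : ∀ u ∈ W, u ≠ w → z u = z₀ u := by
    intro u hu hne
    obtain ⟨u0, u1, u2, u3⟩ := nW u hu
    simp [z, u0, u1, u2, u3, hne]
  have z0W : ∀ u ∈ W, u ≠ w → z₀ u ≠ w := fun u hu hne e =>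
    hne (by rw [← hz.inv u hu, e, hwz])
  have sx : ∀ u ∈ W, OP (x ∘ z) u := fun u hu => by
    refine sim (f := x ∘ z₀) (W := W) (fun v hv => (hW _ (hz.mem v hv)).1) (fun a ha => ?_) hu (hz.opx u hu)
    by_cases ha' : a = w
    · subst ha'
      exact ⟨5, by decide, by simp [iterate_succ_apply, zw, hx (pp x y v), ze1, hx v, ze0, zo0, zo1, hwz]⟩
    · exact ⟨1, odd_one, by simp [zW a ha ha']⟩
  have sy : ∀ u ∈ W, OP (y ∘ z) u := fun u hu => by
    refine sim (f := y ∘ z₀) (W := W) (fun v hv => (hW _ (hz.mem v hv)).2) (fun a ha => ?_) hu (hz.opy u hu)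
    by_cases ha' : a = w
    · subst ha'
      exact ⟨3, by decide, by simp [iterate_succ_apply, zw, y3, ze0, y0, zo1, hwz]⟩
    · exact ⟨1, odd_one, by simp [zW a ha ha']⟩
  have x1 : OP (x ∘ z) (pp x y v) := (sx w hw).step (by simp [zw, hx (pp x y v)])
  have x2 : OP (x ∘ z) v := x1.step (by simp [ze1, hx v])
  have x3 : OP (x ∘ z) (x v) := x2.step (by simp [ze0])
  have x4 : OP (x ∘ z) (x (pp x y v)) := x3.step (by simp [zo0])
  have y1' : OP (y ∘ z) v := (sy w hw).step (by simp [zw, y3])
  have y2' : OP (y ∘ z) (x (pp x y v)) := y1'.step (by simp [ze0, y0])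
  refine ⟨z, ?_, ?_, ?_, ?_, ?_⟩
  · intro u hu
    simp only [T4, mem_union, mem_insert, mem_singleton] at hu ⊢
    rcases hu with (rfl | rfl | rfl | rfl) | hu
    · simp [ze0]
    · simp [zo0]
    · simp [ze1]
    · simp [zo1, hw]
    · by_cases hne : u = w
      · subst hne; simp [zw]
      · simp [zW u hu hne, hz.mem u hu]
  · intro u hu
    simp only [T4, mem_union, mem_insert, mem_singleton] at hu
    rcases hu with (rfl | rfl | rfl | rfl) | hu
    · simp [ze0]
    · simp [zo0, ze1]
    · simp [ze1, zo0]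
    · simp [zo1, zw]
    · by_cases hne : u = w
      · subst hne; simp [zw, zo1]
      · simp [zW u hu hne, zW _ (hz.mem u hu) (z0W u hu hne), hz.inv u hu]
  · intro u hu
    simp only [T4, mem_union, mem_insert, mem_singleton] at hu
    rcases hu with (rfl | rfl | rfl | rfl) | hu
    exacts [x2, x3, x1, x4, sx u hu]
  · intro u hu
    simp only [T4, mem_union, mem_insert, mem_singleton] at hu
    rcases hu with (rfl | rfl | rfl | rfl) | hu
    exacts [y1', .of_fix (by simp [zo0, y2]), .of_fix (by simp [ze1, y1]), y2', sy u hu]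
  · have e : (T4 x y v ∪ W).filter (fun u => z u = u)
        = insert v ((W.filter fun u => z₀ u = u).erase w) := by
      ext u
      simp only [T4, mem_filter, mem_union, mem_insert, mem_singleton, mem_erase]
      constructor
      · rintro ⟨(rfl | rfl | rfl | rfl) | hu, he⟩
        · exact Or.inl rfl
        · exact absurd (zo0.symm.trans he) (Ne.symm h4)
        · exact absurd (ze1.symm.trans he) h4
        · exact absurd (zo1.symm.trans he) w3
        · by_cases hne : u = w
          · subst hne; exact absurd (zw.symm.trans he) (Ne.symm w3)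
          · exact Or.inr ⟨hne, hu, by rwa [← zW u hu hne]⟩
      · rintro (rfl | ⟨hne, hu, he⟩)
        · exact ⟨Or.inl (Or.inl rfl), ze0⟩
        · exact ⟨Or.inr hu, (zW u hu hne).trans he⟩
    rw [e, card_insert_of_notMem (fun hm => (nW v (mem_filter.1 (mem_erase.1 hm).2).1).1 rfl),
      card_erase_add_one (show w ∈ W.filter (fun u => z₀ u = u) from mem_filter.2 ⟨hw, hwz⟩), hz.card, filter_union,
      card_union_of_disjoint (disjoint_filter_filter hd)]
    rw [show ((T4 x y v).filter fun u => x u = u) = ∅ by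
      rw [filter_eq_empty_iff]
      intro u hu
      simp only [T4, mem_insert, mem_singleton] at hu
      rcases hu with e | e | e | e <;> rw [e] <;> (try simp only [hx v, hx (pp x y v)])
      exacts [h3, Ne.symm h3, d3, Ne.symm d3]]
    simp

/-- four-cycle plus an edge of a solution -/
lemma insert_edge (hx : Involutive x) (hy : Involutive y) {v w : α} (h : C4 x y v) {W : Finset α}
    (hd : Disjoint (T4 x y v) W) (hW : Inv2 x y W) {z₀ : α → α} (hz : Sol x y W z₀)
    (hw : w ∈ W) (hwz : z₀ w ≠ w) : ∃ z, Sol x y (T4 x y v ∪ W) z := by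
  obtain ⟨⟨y0, y1, y2, y3⟩, d1, d2, d3⟩ := h.facts hx hy
  obtain ⟨h1, h2, h3, h4⟩ := h
  have nW : ∀ u ∈ W, u ≠ v ∧ u ≠ x v ∧ u ≠ pp x y v ∧ u ≠ x (pp x y v) := by
    intro u hu
    have := disjoint_right.1 hd hu
    simpa [T4] using this
  have hw' : z₀ w ∈ W := hz.mem w hw
  obtain ⟨w0, w1, w2, w3⟩ := nW w hw
  obtain ⟨t0, t1, t2, t3⟩ := nW _ hw'
  let z : α → α := fun u => if u = x v then x (pp x y v) else if u = x (pp x y v) then x v
    else if u = v then w else if u = w then v
    else if u = pp x y v then z₀ w else if u = z₀ w then pp x y v else z₀ u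
  have zo0 : z (x v) = x (pp x y v) := by simp [z]
  have zo1 : z (x (pp x y v)) = x v := by simp [z, d2]
  have ze0 : z v = w := by simp [z, Ne.symm h3, Ne.symm d1]
  have zw : z w = v := by simp [z, w0, w1, w3]
  have ze1 : z (pp x y v) = z₀ w := by simp [z, Ne.symm h4, Ne.symm d3, h2, Ne.symm w2]
  have zw' : z (z₀ w) = pp x y v := by simp [z, t0, t1, t2, t3, hwz]
  have zW : ∀ u ∈ W, u ≠ w → u ≠ z₀ w → z u = z₀ u := by
    intro u hu hne hne'
    obtain ⟨u0, u1, u2, u3⟩ := nW u hu
    simp [z, u0, u1, u2, u3, hne, hne']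
  have z0W : ∀ u ∈ W, u ≠ w → u ≠ z₀ w → z₀ u ≠ w ∧ z₀ u ≠ z₀ w := fun u hu hne hne' =>
    ⟨fun e => hne' (by rw [← e, hz.inv u hu]),
     fun e => hne (by rw [← hz.inv u hu, e, hz.inv w hw])⟩
  have hww := hz.inv w hw
  have sx : ∀ u ∈ W, OP (x ∘ z) u := fun u hu => by
    refine sim (f := x ∘ z₀) (W := W) (fun v hv => (hW _ (hz.mem v hv)).1) (fun a ha => ?_) hu (hz.opx u hu)
    by_cases ha' : a = w
    · subst ha'
      exact ⟨3, by decide, by simp [iterate_succ_apply, zw, zo0, hx (pp x y v), ze1]⟩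
    · by_cases ha'' : a = z₀ w
      · subst ha''
        exact ⟨3, by decide, by simp [iterate_succ_apply, zw', zo1, hx v, ze0, hww]⟩
      · exact ⟨1, odd_one, by simp [zW a ha ha' ha'']⟩
  have sy : ∀ u ∈ W, OP (y ∘ z) u := fun u hu => by
    refine sim (f := y ∘ z₀) (W := W) (fun v hv => (hW _ (hz.mem v hv)).2) (fun a ha => ?_) hu (hz.opy u hu)
    by_cases ha' : a = w
    · subst ha'
      exact ⟨3, by decide, by simp [iterate_succ_apply, zw, y0, zo1, y1, ze1]⟩
    · by_cases ha'' : a = z₀ w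
      · subst ha''
        exact ⟨3, by decide, by simp [iterate_succ_apply, zw', y2, zo0, y3, ze0, hww]⟩
      · exact ⟨1, odd_one, by simp [zW a ha ha' ha'']⟩
  have x1 : OP (x ∘ z) (x v) := (sx w hw).step (by simp [zw])
  have x2 : OP (x ∘ z) (pp x y v) := x1.step (by simp [zo0, hx (pp x y v)])
  have x3 : OP (x ∘ z) (x (pp x y v)) := (sx _ hw').step (by simp [zw'])
  have x4 : OP (x ∘ z) v := x3.step (by simp [zo1, hx v])
  have y1' : OP (y ∘ z) (x (pp x y v)) := (sy w hw).step (by simp [zw, y0])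
  have y2' : OP (y ∘ z) (pp x y v) := y1'.step (by simp [zo1, y1])
  have y3' : OP (y ∘ z) (x v) := (sy _ hw').step (by simp [zw', y2])
  have y4' : OP (y ∘ z) v := y3'.step (by simp [zo0, y3])
  refine ⟨z, ?_, ?_, ?_, ?_, ?_⟩
  · intro u hu
    simp only [T4, mem_union, mem_insert, mem_singleton] at hu ⊢
    rcases hu with (rfl | rfl | rfl | rfl) | hu
    · simp [ze0, hw]
    · simp [zo0]
    · simp [ze1, hw']
    · simp [zo1]
    · by_cases hne : u = w
      · subst hne; simp [zw]
      · by_cases hne' : u = z₀ w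
        · subst hne'; simp [zw']
        · simp [zW u hu hne hne', hz.mem u hu]
  · intro u hu
    simp only [T4, mem_union, mem_insert, mem_singleton] at hu
    rcases hu with (rfl | rfl | rfl | rfl) | hu
    · simp [ze0, zw]
    · simp [zo0, zo1]
    · simp [ze1, zw']
    · simp [zo1, zo0]
    · by_cases hne : u = w
      · subst hne; simp [zw, ze0]
      · by_cases hne' : u = z₀ w
        · subst hne'; simp [zw', ze1]
        · simp [zW u hu hne hne', zW _ (hz.mem u hu) (z0W u hu hne hne').1 (z0W u hu hne hne').2,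
            hz.inv u hu]
  · intro u hu
    simp only [T4, mem_union, mem_insert, mem_singleton] at hu
    rcases hu with (rfl | rfl | rfl | rfl) | hu
    exacts [x4, x1, x2, x3, sx u hu]
  · intro u hu
    simp only [T4, mem_union, mem_insert, mem_singleton] at hu
    rcases hu with (rfl | rfl | rfl | rfl) | hu
    exacts [y4', y3', y2', y1', sy u hu]
  · have e : (T4 x y v ∪ W).filter (fun u => z u = u) = W.filter fun u => z₀ u = u := by
      ext u
      simp only [T4, mem_filter, mem_union, mem_insert, mem_singleton]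
      constructor
      · rintro ⟨(rfl | rfl | rfl | rfl) | hu, he⟩
        · exact absurd (ze0.symm.trans he) w0
        · exact absurd (zo0.symm.trans he) d2
        · exact absurd (ze1.symm.trans he) t2
        · exact absurd (zo1.symm.trans he) (Ne.symm d2)
        · by_cases hne : u = w
          · subst hne; exact absurd (zw.symm.trans he) (Ne.symm w0)
          · by_cases hne' : u = z₀ w
            · subst hne'; exact absurd (zw'.symm.trans he) (Ne.symm t2)
            · exact ⟨hu, by rwa [← zW u hu hne hne']⟩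
      · rintro ⟨hu, he⟩
        refine ⟨Or.inr hu, ?_⟩
        rw [zW u hu (fun e => hwz (e ▸ he)) (fun e => hwz (by subst e; rw [← he, hww]))]
        exact he
    rw [e, hz.card, filter_union, card_union_of_disjoint (disjoint_filter_filter hd)]
    rw [show ((T4 x y v).filter fun u => x u = u) = ∅ by
      rw [filter_eq_empty_iff]
      intro u hu
      simp only [T4, mem_insert, mem_singleton] at hu
      rcases hu with e | e | e | e <;> rw [e] <;> (try simp only [hx v, hx (pp x y v)])
      exacts [h3, Ne.symm h3, d3, Ne.symm d3]]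
    simp

/-- two four-cycles -/
lemma two_C4 (hx : Involutive x) (hy : Involutive y) {v w : α} (h : C4 x y v) (h' : C4 x y w)
    (hd : Disjoint (T4 x y v) (T4 x y w)) : ∃ z, Sol x y (T4 x y v ∪ T4 x y w) z := by
  obtain ⟨⟨y0, y1, y2, y3⟩, d1, d2, d3⟩ := h.facts hx hy
  obtain ⟨⟨b0, b1, b2, b3⟩, c1, c2, c3⟩ := h'.facts hx hy
  obtain ⟨h1, h2, h3, h4⟩ := h
  obtain ⟨g1, g2, g3, g4⟩ := h'
  have nW : ∀ u ∈ T4 x y w, u ≠ v ∧ u ≠ x v ∧ u ≠ pp x y v ∧ u ≠ x (pp x y v) := by
    intro u hu
    have := disjoint_right.1 hd hu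
    simpa [T4] using this
  obtain ⟨a0, a1, a2, a3⟩ := nW w (by simp [T4])
  obtain ⟨p0, p1, p2, p3⟩ := nW (x w) (by simp [T4])
  obtain ⟨q0, q1, q2, q3⟩ := nW (pp x y w) (by simp [T4])
  obtain ⟨r0, r1, r2, r3⟩ := nW (x (pp x y w)) (by simp [T4])
  let z : α → α := fun u => if u = x v then pp x y v else if u = pp x y v then x v
    else if u = x (pp x y v) then x w else if u = x w then x (pp x y v)
    else if u = v then w else if u = w then v else x u
  have zo0 : z (x v) = pp x y v := by simp [z]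
  have ze1 : z (pp x y v) = x v := by simp [z, Ne.symm h4]
  have zo1 : z (x (pp x y v)) = x w := by simp [z, d2, d3]
  have zb : z (x w) = x (pp x y v) := by simp [z, p1, p2, p3]
  have ze0 : z v = w := by simp [z, Ne.symm h3, Ne.symm h2, Ne.symm d1, Ne.symm p0]
  have za : z w = v := by simp [z, a0, a1, a2, a3, Ne.symm g3]
  have zf : z (pp x y w) = x (pp x y w) := by simp [z, q0, q1, q2, q3, Ne.symm g4, g2]
  have zg : z (x (pp x y w)) = pp x y w := by simp [z, r0, r1, r2, r3, c1, c2, hx (pp x y w)]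
  have P : ∀ (f : α → α) a b c, f a = b → f b = c → f c = a → OP f a ∧ OP f b ∧ OP f c :=
    fun f a b c e1 e2 e3 => by
      have h : OP f a := ⟨3, by decide, by simp [iterate_succ_apply, e1, e2, e3]⟩
      exact ⟨h, h.step e1, (h.step e1).step e2⟩
  obtain ⟨xa, xb, xc⟩ := P (x ∘ z) v (x w) (pp x y v) (by simp [ze0])
    (by simp [zb, hx (pp x y v)]) (by simp [ze1, hx v])
  obtain ⟨xd, xe, xf⟩ := P (x ∘ z) (x v) (x (pp x y v)) w (by simp [zo0])
    (by simp [zo1, hx w]) (by simp [za])
  obtain ⟨ya, yb, yc⟩ := P (y ∘ z) v (x (pp x y w)) (x w) (by simp [ze0, b0])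
    (by simp [zg, b2]) (by simp [zb, y3])
  obtain ⟨yd, ye, yf⟩ := P (y ∘ z) w (x (pp x y v)) (pp x y w) (by simp [za, y0])
    (by simp [zo1, b1]) (by simp [zf, b3])
  refine ⟨z, ?_, ?_, ?_, ?_, ?_⟩
  · intro u hu
    simp only [T4, mem_union, mem_insert, mem_singleton] at hu ⊢
    rcases hu with (rfl | rfl | rfl | rfl) | (rfl | rfl | rfl | rfl) <;>
      simp [ze0, zo0, ze1, zo1, za, zb, zf, zg]
  · intro u hu
    simp only [T4, mem_union, mem_insert, mem_singleton] at hu
    rcases hu with (rfl | rfl | rfl | rfl) | (rfl | rfl | rfl | rfl) <;>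
      simp [ze0, zo0, ze1, zo1, za, zb, zf, zg]
  · intro u hu
    simp only [T4, mem_union, mem_insert, mem_singleton] at hu
    rcases hu with (rfl | rfl | rfl | rfl) | (rfl | rfl | rfl | rfl)
    exacts [xa, xd, xc, xe, xf, xb, .of_fix (by simp [zf, hx (pp x y w)]), .of_fix (by simp [zg])]
  · intro u hu
    simp only [T4, mem_union, mem_insert, mem_singleton] at hu
    rcases hu with (rfl | rfl | rfl | rfl) | (rfl | rfl | rfl | rfl)
    exacts [ya, .of_fix (by simp [zo0, y2]), .of_fix (by simp [ze1, y1]), ye, yd, yc, yf, yb]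
  · rw [filter_eq_empty_iff.2, filter_eq_empty_iff.2]
    · intro u hu
      simp only [T4, mem_union, mem_insert, mem_singleton] at hu
      rcases hu with (e | e | e | e) | (e | e | e | e) <;> rw [e] <;>
        (try simp only [hx v, hx (pp x y v), hx w, hx (pp x y w)])
      exacts [h3, Ne.symm h3, d3, Ne.symm d3, g3, Ne.symm g3, c3, Ne.symm c3]
    · intro u hu
      simp only [T4, mem_union, mem_insert, mem_singleton] at hu
      rcases hu with (e | e | e | e) | (e | e | e | e) <;> rw [e] <;>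
        simp only [ze0, zo0, ze1, zo1, za, zb, zf, zg]
      exacts [a0, Ne.symm h4, h4, p3, Ne.symm a0, Ne.symm p3, c3, Ne.symm c3]

/-! ### orbits of `p` -/

variable [Fintype α]

/-- period -/
def per (x y : α → α) (v : α) : ℕ := minimalPeriod (pp x y) v

/-- orbit of `p` -/
def Orb (x y : α → α) (v : α) : Finset α := (range (per x y v)).image fun i => (pp x y)^[i] v

lemma per_pos (hx : Involutive x) (hy : Involutive y) (v : α) : 0 < per x y v :=
  minimalPeriod_pos_of_mem_periodicPts ((pp_inj hx hy).mem_periodicPts v)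

omit [Fintype α] in
lemma it_per (v : α) : (pp x y)^[per x y v] v = v := iterate_minimalPeriod

omit [Fintype α] in
lemma it_inj {v : α} {i j : ℕ} (hi : i < per x y v) (hj : j < per x y v)
    (e : (pp x y)^[i] v = (pp x y)^[j] v) : i = j :=
  (iterate_eq_iterate_iff_of_lt_minimalPeriod hi hj).1 e

lemma mem_Orb (hx : Involutive x) (hy : Involutive y) {v u : α} :
    u ∈ Orb x y v ↔ ∃ i, (pp x y)^[i] v = u := by
  simp only [Orb, mem_image, Finset.mem_range]
  constructor
  · rintro ⟨i, -, e⟩; exact ⟨i, e⟩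
  · rintro ⟨i, e⟩
    exact ⟨i % per x y v, Nat.mod_lt _ (per_pos hx hy v), by rw [per, iterate_mod_minimalPeriod_eq, e]⟩

lemma self_mem_Orb (hx : Involutive x) (hy : Involutive y) (v : α) : v ∈ Orb x y v :=
  (mem_Orb hx hy).2 ⟨0, rfl⟩

lemma Orb_pp (hx : Involutive x) (hy : Involutive y) {v u : α} (h : u ∈ Orb x y v) :
    pp x y u ∈ Orb x y v := by
  obtain ⟨i, rfl⟩ := (mem_Orb hx hy).1 h
  exact (mem_Orb hx hy).2 ⟨i + 1, iterate_succ_apply' _ _ _⟩

lemma Orb_symm (hx : Involutive x) (hy : Involutive y) {v u : α} (h : u ∈ Orb x y v) :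
    v ∈ Orb x y u := by
  simp only [Orb, mem_image, Finset.mem_range] at h
  obtain ⟨i, hi, rfl⟩ := h
  refine (mem_Orb hx hy).2 ⟨per x y v - i, ?_⟩
  rw [← iterate_add_apply, show per x y v - i + i = per x y v by omega, it_per]

lemma Orb_trans (hx : Involutive x) (hy : Involutive y) {v u t : α} (h : u ∈ Orb x y v)
    (h' : t ∈ Orb x y u) : t ∈ Orb x y v := by
  obtain ⟨i, rfl⟩ := (mem_Orb hx hy).1 h
  obtain ⟨j, rfl⟩ := (mem_Orb hx hy).1 h'
  exact (mem_Orb hx hy).2 ⟨j + i, iterate_add_apply _ _ _ _⟩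

lemma x_Orb (hx : Involutive x) (hy : Involutive y) {v u : α} (h : u ∈ Orb x y v) :
    x u ∈ Orb x y (x v) := by
  obtain ⟨i, rfl⟩ := (mem_Orb hx hy).1 h
  refine Orb_symm hx hy ((mem_Orb hx hy).2 ⟨i, ?_⟩)
  exact it_x_it hx hy v i

lemma per_iterate (hx : Involutive x) (hy : Involutive y) (v : α) (i : ℕ) :
    per x y ((pp x y)^[i] v) = per x y v :=
  minimalPeriod_apply_iterate ((pp_inj hx hy).mem_periodicPts v) i

lemma xa_eq (hx : Involutive x) (hy : Involutive y) {a : α} (ha : y a = a) :
    x a = (pp x y)^[per x y a - 1] a := by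
  apply pp_inj hx hy
  rw [← iterate_succ_apply' (pp x y), Nat.succ_eq_add_one, show per x y a - 1 + 1 = per x y a from
    Nat.succ_pred_eq_of_pos (per_pos hx hy a) , it_per, ← y_eq hx, ha]

lemma no_xfix (hx : Involutive x) (hy : Involutive y) {a u : α} (ha : y a = a)
    (hev : Even (per x y a)) (hu : u ∈ Orb x y a) : x u ≠ u := by
  intro e
  simp only [Orb, mem_image, Finset.mem_range] at hu
  obtain ⟨i, hi, rfl⟩ := hu
  have h := it_x_it hx hy a i
  rw [e, xa_eq hx hy ha, ← iterate_add_apply] at h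
  have hk := per_pos hx hy a
  rw [← iterate_mod_minimalPeriod_eq] at h
  have := it_inj (Nat.mod_lt _ hk) (by omega) h
  obtain ⟨c, hc⟩ := hev
  change (i + i) % per x y a = per x y a - 1 at this
  have h2 := Nat.mod_add_div (i + i) (per x y a)
  rw [this] at h2
  rw [hc] at h2
  have h3 : (c + c) * ((i + i) / (c + c)) = 2 * (c * ((i + i) / (c + c))) := by ring
  omega

lemma count_two (hx : Involutive x) (hy : Involutive y) {v : α} (f : α → α)
    (hev : Even (per x y v))
    (hf : ∀ i, f ((pp x y)^[i] v) = (pp x y)^[i] v ↔ (pp x y)^[i + i] v = v) :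
    ((Orb x y v).filter fun u => f u = u).card = 2 := by
  obtain ⟨c, hc⟩ := hev
  have hk := per_pos hx hy v
  have e : ((Orb x y v).filter fun u => f u = u) = ({0, c} : Finset ℕ).image fun i => (pp x y)^[i] v := by
    ext u
    simp only [Orb, mem_filter, mem_image, Finset.mem_range, mem_insert, mem_singleton]
    constructor
    · rintro ⟨⟨i, hi, rfl⟩, e⟩
      have h : per x y v ∣ i + i := IsPeriodicPt.minimalPeriod_dvd ((hf i).1 e)
      refine ⟨i, ?_, rfl⟩
      obtain ⟨d, hd⟩ := h
      rcases d with _ | _ | d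
      · left; omega
      · right; omega
      · exfalso
        have : per x y v * 2 ≤ per x y v * (d + 1 + 1) := Nat.mul_le_mul_left _ (by omega)
        omega
    · rintro ⟨i, rfl | rfl, rfl⟩
      · exact ⟨⟨0, hk, rfl⟩, (hf 0).2 rfl⟩
      · exact ⟨⟨i, by omega, rfl⟩, (hf i).2 (by rw [← hc, it_per])⟩
  rw [e, card_image_of_injOn]
  · exact card_pair (by omega)
  · intro i hi j hj hij
    simp only [coe_insert, coe_singleton, Set.mem_insert_iff, Set.mem_singleton_iff] at hi hj
    exact it_inj (by omega) (by omega) hij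

/-- an `x`-heavy and a `y`-heavy path -/
lemma pair_gadget (hx : Involutive x) (hy : Involutive y) {a c : α} (ha : y a = a)
    (hae : Even (per x y a)) (hc : x c = c) (hce : Even (per x y c)) :
    Bal x y (Orb x y a ∪ Orb x y c) ∧ ∃ z, Sol x y (Orb x y a ∪ Orb x y c) z := by
  have hab : x a ∈ Orb x y a := by rw [xa_eq hx hy ha]; exact (mem_Orb hx hy).2 ⟨_, rfl⟩
  have hxA : ∀ u ∈ Orb x y a, x u ∈ Orb x y a := fun u hu =>
    Orb_trans hx hy hab (x_Orb hx hy hu)
  have hxC : ∀ u ∈ Orb x y c, x u ∈ Orb x y c := fun u hu => by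
    have := x_Orb hx hy hu; rwa [hc] at this
  have hnf : ∀ u ∈ Orb x y a, x u ≠ u := fun u hu => no_xfix hx hy ha hae hu
  have hcA : ∀ u ∈ Orb x y c, u ∉ Orb x y a := fun u hu hu' =>
    hnf c (Orb_trans hx hy hu' (Orb_symm hx hy hu)) hc
  have hA2 : 2 ≤ per x y a := by
    obtain ⟨k, hk⟩ := hae; have := per_pos hx hy a; omega
  have hA' := hae
  have hC2 : 2 ≤ per x y c := by
    obtain ⟨k, hk⟩ := hce; have := per_pos hx hy c; omega
  have hyfix : ∀ u ∈ Orb x y c, y u ≠ u := by
    intro u hu e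
    simp only [Orb, mem_image, Finset.mem_range] at hu
    obtain ⟨i, hi, rfl⟩ := hu
    have h := congrArg ((pp x y)^[i]) e
    rw [y_eq (y := y) hx, ← iterate_succ_apply, iterate_succ_apply', it_x_it hx hy, hc,
      ← iterate_add_apply, ← iterate_mod_minimalPeriod_eq (n := i + i)] at h
    have := it_inj (i := 1) (by omega) (Nat.mod_lt _ (by omega)) h
    obtain ⟨k, hk⟩ := hce
    change 1 = (i + i) % per x y c at this
    rw [hk] at this hi
    have h2 := Nat.mod_add_div (i + i) (k + k)
    rw [← this] at h2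
    have h3 : (k + k) * ((i + i) / (k + k)) = 2 * (k * ((i + i) / (k + k))) := by ring
    omega
  have hT : Inv2 x y (Orb x y a ∪ Orb x y c) := by
    intro u hu
    rw [y_eq (y := y) hx u]
    rcases mem_union.1 hu with h | h
    · exact ⟨mem_union_left _ (hxA u h), mem_union_left _ (Orb_pp hx hy (hxA u h))⟩
    · exact ⟨mem_union_right _ (hxC u h), mem_union_right _ (Orb_pp hx hy (hxC u h))⟩
  refine ⟨⟨hT, ?_⟩, ?_⟩
  · rw [filter_union, filter_union, filter_eq_empty_iff.2 hnf, filter_eq_empty_iff.2 hyfix,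
      empty_union, union_empty, count_two hx hy x hce, count_two hx hy y hae]
    · intro i
      rw [y_eq (y := y) hx]
      constructor
      · intro e
        have h := congrArg ((pp x y)^[i]) e
        rw [← iterate_succ_apply, iterate_succ_apply', it_x_it hx hy, ← y_eq hx, ha,
          ← iterate_add_apply] at h
        exact h.symm
      · intro e
        apply (pp_inj hx hy).iterate i
        rw [← iterate_succ_apply, iterate_succ_apply', it_x_it hx hy, ← y_eq hx, ha,
          ← iterate_add_apply, e]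
    · intro i
      constructor
      · intro e
        have h := congrArg ((pp x y)^[i]) e
        rw [it_x_it hx hy, hc, ← iterate_add_apply] at h
        exact h.symm
      · intro e
        apply (pp_inj hx hy).iterate i
        rw [it_x_it hx hy, hc, ← iterate_add_apply, e]
  set b := x a with hb
  have hba : b ≠ a := hnf a (self_mem_Orb hx hy a)
  have hcnA : c ∉ Orb x y a := hcA c (self_mem_Orb hx hy c)
  have hca : c ≠ a := fun e => hcnA (e ▸ self_mem_Orb hx hy a)
  have hcb : c ≠ b := fun e => hcnA (e ▸ hab)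
  let z : α → α := fun u => if u = a then a else if u = b then c else if u = c then b else x u
  have za : z a = a := by simp [z]
  have zb : z b = c := by simp [z, hba]
  have zc : z c = b := by simp [z, hca, hcb]
  have zo : ∀ u, u ≠ a → u ≠ b → u ≠ c → z u = x u := fun u h1 h2 h3 => by simp [z, h1, h2, h3]
  have xclosed : ∀ u, u ≠ a → u ≠ b → u ≠ c → x u ≠ a ∧ x u ≠ b ∧ x u ≠ c := fun u h1 h2 h3 =>
    ⟨fun e => h2 (by rw [hb, ← e, hx]), fun e => h1 (hx.injective (e.trans hb)),
      fun e => h3 (by rw [← hx u, e, hc])⟩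
  have gA : ∀ i < per x y a - 1,
      (y ∘ z)^[i] (pp x y a) = (pp x y)^[i] (pp x y a) := by
    intro i hi
    refine seg i fun j hj => ?_
    simp only [← iterate_succ_apply]
    have hm : (pp x y)^[j + 1] a ∈ Orb x y a := (mem_Orb hx hy).2 ⟨_, rfl⟩
    rw [comp_apply, zo _ ?_ ?_ ?_]
    · exact (iterate_succ_apply' (pp x y) (j + 1) a).symm
    · intro e
      have := it_inj (j := 0) (by omega) (by omega) e
      omega
    · intro e
      rw [hb, xa_eq hx hy ha] at e
      have := it_inj (by omega) (by omega) e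
      omega
    · intro e; exact hcnA (e ▸ hm)
  have gC : ∀ i < per x y c,
      (y ∘ z)^[i] (pp x y c) = (pp x y)^[i] (pp x y c) := by
    intro i hi
    refine seg i fun j hj => ?_
    simp only [← iterate_succ_apply]
    have hm : (pp x y)^[j + 1] c ∈ Orb x y c := (mem_Orb hx hy).2 ⟨_, rfl⟩
    rw [comp_apply, zo _ ?_ ?_ ?_]
    · exact (iterate_succ_apply' (pp x y) (j + 1) c).symm
    · intro e; exact hcA _ hm (e ▸ self_mem_Orb hx hy a)
    · intro e; exact hcA _ hm (e ▸ hab)
    · intro e
      have := it_inj (j := 0) (by omega) (by omega) e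
      omega
  have g1 : (y ∘ z) c = pp x y a := by simp [zc, hb, pp]
  have g2 : (y ∘ z) b = pp x y c := by simp [zb, pp, hc]
  have e1 : (y ∘ z)^[per x y a - 2] (pp x y a) = b := by
    rw [gA _ (by omega), ← iterate_succ_apply, hb, xa_eq hx hy ha]
    congr 2; omega
  have e2 : (y ∘ z)^[per x y a] c = pp x y c := by
    rw [show per x y a = 1 + ((per x y a - 2) + 1) by omega, iterate_add_apply, iterate_one,
      iterate_succ_apply, g1, e1, g2]
  have opc : OP (y ∘ z) c := by
    refine ⟨(per x y c - 1) + per x y a, ?_, ?_⟩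
    · obtain ⟨k, hk⟩ := hA'; obtain ⟨l, hl⟩ := hce
      rw [Nat.odd_iff]; omega
    · rw [iterate_add_apply, e2, gC _ (by omega), ← iterate_succ_apply, Nat.succ_eq_add_one,
        show per x y c - 1 + 1 = per x y c by omega, it_per]
  refine ⟨z, ?_, ?_, ?_, ?_, ?_⟩
  · intro u hu
    by_cases h1 : u = a
    · subst h1; rw [za]; exact hu
    by_cases h2 : u = b
    · subst h2; rw [zb]; exact mem_union_right _ (self_mem_Orb hx hy c)
    by_cases h3 : u = c
    · subst h3; rw [zc]; exact mem_union_left _ hab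
    rw [zo u h1 h2 h3]; exact (hT u hu).1
  · intro u _
    by_cases h1 : u = a
    · subst h1; rw [za, za]
    by_cases h2 : u = b
    · subst h2; rw [zb, zc]
    by_cases h3 : u = c
    · subst h3; rw [zc, zb]
    obtain ⟨k1, k2, k3⟩ := xclosed u h1 h2 h3
    rw [zo u h1 h2 h3, zo _ k1 k2 k3, hx]
  · intro u _
    have hA : OP (x ∘ z) a := ⟨3, by decide, by simp [iterate_succ_apply, za, ← hb, zb, hc, zc, show x b = a by rw [hb, hx]]⟩
    by_cases h1 : u = a
    · subst h1; exact hA
    by_cases h2 : u = b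
    · subst h2; exact hA.step (by simp [za, hb])
    by_cases h3 : u = c
    · subst h3; exact (hA.step (w := b) (by simp [za, hb])).step (by simp [zb, hc])
    exact .of_fix (by simp [zo u h1 h2 h3, hx u])
  · intro u hu
    simp only [mem_union, Orb, mem_image, Finset.mem_range] at hu
    rcases hu with ⟨i, hi, rfl⟩ | ⟨i, hi, rfl⟩
    · rcases i with _ | i
      · exact .of_fix (by simp [za, ha])
      · rw [iterate_succ_apply, ← gA i (by omega)]
        exact (opc.step g1).iter i
    · rcases i with _ | i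
      · exact opc
      · rw [iterate_succ_apply, ← gC i (by omega)]
        exact (e2 ▸ opc.iter (per x y a) : OP (y ∘ z) (pp x y c)).iter i
  · have e : (Orb x y a ∪ Orb x y c).filter (fun u => z u = u)
        = insert a (((Orb x y a ∪ Orb x y c).filter fun u => x u = u).erase c) := by
      ext u
      simp only [mem_filter, mem_insert, mem_erase]
      constructor
      · rintro ⟨hu, he⟩
        by_cases h1 : u = a
        · exact Or.inl h1
        by_cases h2 : u = b
        · subst h2; exact absurd (zb.symm.trans he) hcb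
        by_cases h3 : u = c
        · subst h3; exact absurd (zc.symm.trans he) (Ne.symm hcb)
        exact Or.inr ⟨h3, hu, by rwa [← zo u h1 h2 h3]⟩
      · rintro (rfl | ⟨h3, hu, he⟩)
        · exact ⟨mem_union_left _ (self_mem_Orb hx hy u), za⟩
        · refine ⟨hu, ?_⟩
          rw [zo u ?_ ?_ h3]
          · exact he
          · rintro rfl; exact hba he
          · rintro rfl; exact hba (by rw [← he, hb, hx])
    rw [e, card_insert_of_notMem (show a ∉ ((Orb x y a ∪ Orb x y c).filter fun u => x u = u).erase c from fun h => hba (mem_filter.1 (mem_erase.1 h).2).2),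
      card_erase_add_one (show c ∈ (Orb x y a ∪ Orb x y c).filter (fun u => x u = u) from mem_filter.2 ⟨mem_union_right _ (self_mem_Orb hx hy c), hc⟩)]

/-- an alternating cycle whose half-length is even and at least four -/
lemma cycle_gadget (hx : Involutive x) (hy : Involutive y) {v : α} (hxv : x v ∉ Orb x y v)
    (hev : Even (per x y v)) (h4 : 4 ≤ per x y v) :
    Bal x y (Orb x y v ∪ Orb x y (x v)) ∧ ∃ z, Sol x y (Orb x y v ∪ Orb x y (x v)) z := by
  have hdis : ∀ u ∈ Orb x y v, u ∉ Orb x y (x v) := fun u hu hu' =>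
    hxv (Orb_trans hx hy hu (Orb_symm hx hy hu'))
  have hxA : ∀ u ∈ Orb x y v, x u ∈ Orb x y (x v) := fun u hu => x_Orb hx hy hu
  have hxB : ∀ u ∈ Orb x y (x v), x u ∈ Orb x y v := fun u hu => by
    have := x_Orb hx hy hu; rwa [hx v] at this
  have hT : Inv2 x y (Orb x y v ∪ Orb x y (x v)) := by
    intro u hu
    rw [y_eq (y := y) hx u]
    rcases mem_union.1 hu with h | h
    · exact ⟨mem_union_right _ (hxA u h), mem_union_right _ (Orb_pp hx hy (hxA u h))⟩
    · exact ⟨mem_union_left _ (hxB u h), mem_union_left _ (Orb_pp hx hy (hxB u h))⟩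
  have hxn : ∀ u ∈ Orb x y v ∪ Orb x y (x v), x u ≠ u := fun u hu e => by
    rcases mem_union.1 hu with h | h
    · exact hdis u h (by have := hxA u h; rwa [e] at this)
    · exact hdis u (by have := hxB u h; rwa [e] at this) h
  have hyn : ∀ u ∈ Orb x y v ∪ Orb x y (x v), y u ≠ u := fun u hu e => by
    rw [y_eq (y := y) hx u] at e
    rcases mem_union.1 hu with h | h
    · exact hdis u h (by have := Orb_pp hx hy (hxA u h); rwa [e] at this)
    · exact hdis u (by have := Orb_pp hx hy (hxB u h); rwa [e] at this) h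
  refine ⟨⟨hT, by rw [filter_eq_empty_iff.2 hxn, filter_eq_empty_iff.2 hyn]⟩, ?_⟩
  set k := per x y v with hk
  let e : ℕ → α := fun i => (pp x y)^[i] v
  let o : ℕ → α := fun i => x ((pp x y)^[i] v)
  have he : ∀ i, e i ∈ Orb x y v := fun i => (mem_Orb hx hy).2 ⟨i, rfl⟩
  have eo : ∀ i j, e i ≠ o j := fun i j h => hdis _ (he i) (h ▸ hxA _ (he j))
  have ee : ∀ {i j}, i < k → j < k → e i = e j → i = j := fun hi hj h => it_inj hi hj h
  have oo : ∀ {i j}, i < k → j < k → o i = o j → i = j := fun hi hj h =>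
    it_inj hi hj (hx.injective h)
  have pe : ∀ i, pp x y (e i) = e (i + 1) := fun i => (iterate_succ_apply' _ _ _).symm
  have po : ∀ i, pp x y (o (i + 1)) = o i := fun i => by
    change pp x y (x ((pp x y)^[i + 1] v)) = x ((pp x y)^[i] v)
    rw [iterate_succ_apply', pp_x_pp hx hy]
  have xe : ∀ i, x (e i) = o i := fun _ => rfl
  have xo : ∀ i, x (o i) = e i := fun i => hx _
  have yo : ∀ i, y (o i) = e (i + 1) := fun i => pe i
  have ye : ∀ i, y (e (i + 1)) = o i := fun i => by rw [← yo, hy]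
  have ek : e k = e 0 := it_per v
  have ye0 : y (e 0) = o (k - 1) := by
    rw [← ek, show k = k - 1 + 1 by omega, ye]; rfl
  let z : α → α := fun u => if u = o 0 then e 1 else if u = e 1 then o 0
    else if u = o 1 then o 2 else if u = o 2 then o 1
    else if u = e 0 then e 2 else if u = e 2 then e 0 else x u
  have n01 : e 0 ≠ e 1 := fun h => absurd (ee (by omega) (by omega) h) (by omega)
  have n02 : e 0 ≠ e 2 := fun h => absurd (ee (by omega) (by omega) h) (by omega)
  have n12 : e 1 ≠ e 2 := fun h => absurd (ee (by omega) (by omega) h) (by omega)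
  have m01 : o 0 ≠ o 1 := fun h => absurd (oo (by omega) (by omega) h) (by omega)
  have m02 : o 0 ≠ o 2 := fun h => absurd (oo (by omega) (by omega) h) (by omega)
  have m12 : o 1 ≠ o 2 := fun h => absurd (oo (by omega) (by omega) h) (by omega)
  have zo0 : z (o 0) = e 1 := by simp [z]
  have ze1 : z (e 1) = o 0 := by simp [z, eo 1 0]
  have zo1 : z (o 1) = o 2 := by simp [z, m01.symm, (eo 1 1).symm]
  have zo2 : z (o 2) = o 1 := by simp [z, m02.symm, m12.symm, (eo 1 2).symm]
  have ze0 : z (e 0) = e 2 := by simp [z, eo 0 0, eo 0 1, eo 0 2, n01]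
  have ze2 : z (e 2) = e 0 := by simp [z, eo 2 0, eo 2 1, eo 2 2, n12.symm, n02.symm]
  have zo : ∀ u, u ≠ o 0 → u ≠ e 1 → u ≠ o 1 → u ≠ o 2 → u ≠ e 0 → u ≠ e 2 → z u = x u :=
    fun u a b c d f g => by simp [z, a, b, c, d, f, g]
  have gE : ∀ i, i + 3 ≤ k → (y ∘ z)^[i] (e 3) = e (3 + i) := by
    intro i hi
    have : (pp x y)^[i] (e 3) = e (3 + i) := by
      change (pp x y)^[i] ((pp x y)^[3] v) = _
      rw [← iterate_add_apply, add_comm]
    rw [← this]
    refine seg i fun j hj => ?_
    have hj' : (pp x y)^[j] (e 3) = e (3 + j) := by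
      change (pp x y)^[j] ((pp x y)^[3] v) = _
      rw [← iterate_add_apply, add_comm]
    rw [iterate_succ_apply' (pp x y), hj', comp_apply, zo _ (eo _ _)
      (fun h => absurd (ee (by omega) (by omega) h) (by omega)) (eo _ _) (eo _ _)
      (fun h => absurd (ee (by omega) (by omega) h) (by omega))
      (fun h => absurd (ee (by omega) (by omega) h) (by omega))]
    rfl
  have hpo : ∀ j, j < k → (pp x y)^[j] (o (k - 1)) = o (k - 1 - j) := by
    intro j
    induction j with
    | zero => intro _; rfl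
    | succ j ih =>
      intro hj
      rw [iterate_succ_apply', ih (by omega), show k - 1 - j = k - 1 - (j + 1) + 1 by omega, po]
  have gO : ∀ i, i + 3 ≤ k → (y ∘ z)^[i] (o (k - 1)) = o (k - 1 - i) := by
    intro i hi
    rw [← hpo i (by omega)]
    refine seg i fun j hj => ?_
    rw [iterate_succ_apply' (pp x y), hpo j (by omega), comp_apply, zo _
      (fun h => absurd (oo (by omega) (by omega) h) (by omega)) (eo _ _).symm
      (fun h => absurd (oo (by omega) (by omega) h) (by omega))
      (fun h => absurd (oo (by omega) (by omega) h) (by omega)) (eo _ _).symm (eo _ _).symm]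
    rfl
  have g1 : (y ∘ z)^[2] (e 0) = e 3 := by simp [iterate_succ_apply, ze0, ye 1, zo1, yo 2]
  have g2 : (y ∘ z)^[2] (o 2) = o (k - 1) := by simp [iterate_succ_apply, zo2, yo 1, ze2, ye0]
  have ope : OP (y ∘ z) (e 0) := by
    refine ⟨(k - 3) + 2, ?_, ?_⟩
    · obtain ⟨c, hc⟩ := hev; rw [Nat.odd_iff]; omega
    · rw [iterate_add_apply, g1, gE _ (by omega), show 3 + (k - 3) = k by omega, ek]
  have opo : OP (y ∘ z) (o 2) := by
    refine ⟨(k - 3) + 2, ?_, ?_⟩
    · obtain ⟨c, hc⟩ := hev; rw [Nat.odd_iff]; omega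
    · rw [iterate_add_apply, g2, gO _ (by omega)]
      congr 1; omega
  have cases6 : ∀ u, u = o 0 ∨ u = e 1 ∨ u = o 1 ∨ u = o 2 ∨ u = e 0 ∨ u = e 2 ∨
      ((u ≠ o 0 ∧ u ≠ e 1 ∧ u ≠ o 1 ∧ u ≠ o 2 ∧ u ≠ e 0 ∧ u ≠ e 2) ∧
        x u ≠ o 0 ∧ x u ≠ e 1 ∧ x u ≠ o 1 ∧ x u ≠ o 2 ∧ x u ≠ e 0 ∧ x u ≠ e 2) := by
    intro u
    by_cases a : u = o 0; · tauto
    by_cases b : u = e 1; · tauto
    by_cases c : u = o 1; · tauto
    by_cases d : u = o 2; · tauto
    by_cases f : u = e 0; · tauto
    by_cases g : u = e 2; · tauto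
    refine Or.inr <| Or.inr <| Or.inr <| Or.inr <| Or.inr <| Or.inr ⟨⟨a, b, c, d, f, g⟩,
      fun h => f ?_, fun h => c ?_, fun h => b ?_, fun h => g ?_, fun h => a ?_, fun h => d ?_⟩
    all_goals rw [← hx u, h]
    all_goals first | exact xo _ | rfl
  refine ⟨z, ?_, ?_, ?_, ?_, ?_⟩
  · intro u hu
    have hm : ∀ i, o i ∈ Orb x y v ∪ Orb x y (x v) := fun i => mem_union_right _ (hxA _ (he i))
    have hm' : ∀ i, e i ∈ Orb x y v ∪ Orb x y (x v) := fun i => mem_union_left _ (he i)
    rcases cases6 u with r | r | r | r | r | r | ⟨⟨a, b, c, d, f, g⟩, -⟩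
    · rw [r, zo0]; exact hm' 1
    · rw [r, ze1]; exact hm 0
    · rw [r, zo1]; exact hm 2
    · rw [r, zo2]; exact hm 1
    · rw [r, ze0]; exact hm' 2
    · rw [r, ze2]; exact hm' 0
    · rw [zo u a b c d f g]; exact (hT u hu).1
  · intro u _
    rcases cases6 u with r | r | r | r | r | r |
      ⟨⟨a, b, c, d, f, g⟩, a', b', c', d', f', g'⟩
    · rw [r, zo0, ze1]
    · rw [r, ze1, zo0]
    · rw [r, zo1, zo2]
    · rw [r, zo2, zo1]
    · rw [r, ze0, ze2]
    · rw [r, ze2, ze0]
    · rw [zo u a b c d f g, zo _ a' b' c' d' f' g', hx]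
  · intro u _
    have hA : OP (x ∘ z) (e 0) := ⟨3, by decide, by simp [iterate_succ_apply, ze0, xe 2, zo2, xo 1, ze1, xo 0]⟩
    have hB : OP (x ∘ z) (o 0) := ⟨3, by decide, by simp [iterate_succ_apply, zo0, xe 1, zo1, xo 2, ze2, xe 0]⟩
    have hA1 := hA.step (w := o 2) (by simp [ze0, xe 2])
    have hB1 := hB.step (w := o 1) (by simp [zo0, xe 1])
    rcases cases6 u with r | r | r | r | r | r | ⟨⟨a, b, c, d, f, g⟩, -⟩
    · rw [r]; exact hB
    · rw [r]; exact hA1.step (by simp [zo2, xo 1])
    · rw [r]; exact hB1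
    · rw [r]; exact hA1
    · rw [r]; exact hA
    · rw [r]; exact hB1.step (by simp [zo1, xo 2])
    · exact .of_fix (by simp [zo u a b c d f g, hx u])
  · have oe : ∀ i, i < k → OP (y ∘ z) (e i) := by
      intro i hi
      match i with
      | 0 => exact ope
      | 1 => exact .of_fix (by simp [ze1, yo 0])
      | 2 => exact opo.step (by simp [zo2, yo 1])
      | i + 3 =>
        rw [add_comm i 3, ← gE i (by omega)]
        exact (g1 ▸ ope.iter 2 : OP (y ∘ z) (e 3)).iter i
    have oo' : ∀ i, i < k → OP (y ∘ z) (o i) := by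
      intro i hi
      match i with
      | 0 => exact .of_fix (by simp [zo0, ye 0])
      | 1 => exact ope.step (by simp [ze0, ye 1])
      | 2 => exact opo
      | i + 3 =>
        rw [show i + 3 = k - 1 - (k - 1 - (i + 3)) by omega, ← gO _ (by omega)]
        exact (g2 ▸ opo.iter 2 : OP (y ∘ z) (o (k - 1))).iter _
    intro u hu
    rcases mem_union.1 hu with h | h
    · simp only [Orb, mem_image, Finset.mem_range] at h
      obtain ⟨i, hi, rfl⟩ := h
      exact oe i hi
    · have h' := hxB u h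
      simp only [Orb, mem_image, Finset.mem_range] at h'
      obtain ⟨i, hi, h''⟩ := h'
      have : u = o i := by rw [← hx u, ← h'']
      rw [this]; exact oo' i hi
  · rw [filter_eq_empty_iff.2 hxn, filter_eq_empty_iff.2]
    intro u hu h
    rcases cases6 u with r | r | r | r | r | r | ⟨⟨a, b, c, d, f, g⟩, -⟩
    · rw [r] at h; exact eo 1 0 (zo0.symm.trans h)
    · rw [r] at h; exact eo 1 0 (ze1.symm.trans h).symm
    · rw [r] at h; exact m12 (zo1.symm.trans h).symm
    · rw [r] at h; exact m12 (zo2.symm.trans h)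
    · rw [r] at h; exact n02 (ze0.symm.trans h).symm
    · rw [r] at h; exact n02 (ze2.symm.trans h)
    · rw [zo u a b c d f g] at h; exact hxn u hu h

/-! ### induction -/

lemma Inv2.Orb_subset (hx : Involutive x) (hy : Involutive y) {U : Finset α} (hU : Inv2 x y U)
    {v : α} (hv : v ∈ U) : Orb x y v ⊆ U := by
  intro u hu
  obtain ⟨i, rfl⟩ := (mem_Orb hx hy).1 hu
  induction i with
  | zero => exact hv
  | succ i ih =>
    rw [iterate_succ_apply']
    exact (hU _ ((hU _ (ih ((mem_Orb hx hy).2 ⟨i, rfl⟩))).1)).2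

lemma good_count (hx : Involutive x) (hy : Involutive y) {U : Finset α} (hU : Inv2 x y U) :
    (U.filter fun u => x u = u ∧ Odd (per x y u)).card
      = (U.filter fun u => y u = u ∧ Odd (per x y u)).card := by
  refine Finset.card_bij' (fun u _ => (pp x y)^[per x y u / 2 + 1] u)
    (fun u _ => (pp x y)^[per x y u / 2] u) ?_ ?_ ?_ ?_
  · intro u hu
    simp only [mem_filter] at hu ⊢
    obtain ⟨hu, hxu, hodd⟩ := hu
    obtain ⟨j, hj⟩ := hodd
    refine ⟨hU.Orb_subset hx hy hu ((mem_Orb hx hy).2 ⟨_, rfl⟩), ?_,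
      by rw [per_iterate hx hy]; exact ⟨j, hj⟩⟩
    apply (pp_inj hx hy).iterate (per x y u / 2 + 1)
    rw [y_eq (y := y) hx, ← iterate_succ_apply, iterate_succ_apply', it_x_it hx hy, hxu, ← iterate_add_apply,
      show per x y u / 2 + 1 + (per x y u / 2 + 1) = 1 + per x y u by omega, iterate_add_apply,
      it_per, iterate_one]
  · intro u hu
    simp only [mem_filter] at hu ⊢
    obtain ⟨hu, hyu, hodd⟩ := hu
    obtain ⟨j, hj⟩ := hodd
    refine ⟨hU.Orb_subset hx hy hu ((mem_Orb hx hy).2 ⟨_, rfl⟩), ?_,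
      by rw [per_iterate hx hy]; exact ⟨j, hj⟩⟩
    apply (pp_inj hx hy).iterate (per x y u / 2)
    rw [it_x_it hx hy, xa_eq hx hy hyu, ← iterate_add_apply]
    congr 2; omega
  · intro u hu
    simp only [mem_filter] at hu
    obtain ⟨hu, hxu, hodd⟩ := hu
    obtain ⟨j, hj⟩ := hodd
    simp only [per_iterate hx hy]
    rw [← iterate_add_apply, show per x y u / 2 + (per x y u / 2 + 1) = per x y u by omega, it_per]
  · intro u hu
    simp only [mem_filter] at hu
    obtain ⟨hu, hyu, hodd⟩ := hu
    obtain ⟨j, hj⟩ := hodd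
    simp only [per_iterate hx hy]
    rw [← iterate_add_apply, show per x y u / 2 + 1 + per x y u / 2 = per x y u by omega, it_per]

/-- **Common neighbour**, except for a single four-cycle. -/
theorem exists_sol (hx : Involutive x) (hy : Involutive y) (U : Finset α) (hU : Bal x y U) :
    (∃ z, Sol x y U z) ∨ ∃ v, C4 x y v ∧ U = T4 x y v := by
  induction U using Finset.strongInduction with
  | H U ih =>
  by_cases h4 : ∃ v ∈ U, C4 x y v
  · obtain ⟨v, hv, hv4⟩ := h4
    have hTU : T4 x y v ⊆ U := by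
      intro u hu
      have hp : pp x y v ∈ U := (hU.1 _ (hU.1 v hv).1).2
      simp only [T4, mem_insert, mem_singleton] at hu
      rcases hu with rfl | rfl | rfl | rfl
      exacts [hv, (hU.1 v hv).1, hp, (hU.1 _ hp).1]
    have hW := hU.sdiff hx hy (hv4.bal hx hy) hTU
    by_cases hne : U \ T4 x y v = ∅
    · exact Or.inr ⟨v, hv4, (Finset.sdiff_eq_empty_iff_subset.1 hne).antisymm hTU⟩
    left
    rw [← union_sdiff_of_subset hTU]
    rcases ih _ (Finset.sdiff_ssubset hTU ⟨v, by simp [T4]⟩) hW with ⟨z₀, hz₀⟩ | ⟨w, hw4, hw⟩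
    · obtain ⟨w, hw⟩ := Finset.nonempty_of_ne_empty hne
      by_cases hf : z₀ w = w
      · exact insert_fixed hx hy hv4 disjoint_sdiff hW.1 hz₀ hw hf
      · exact insert_edge hx hy hv4 disjoint_sdiff hW.1 hz₀ hw hf
    · rw [hw]
      exact two_C4 hx hy hv4 hw4 (hw ▸ disjoint_sdiff)
  push Not at h4
  left
  have step : ∀ T, Bal x y T → T ⊆ U → T.Nonempty → (∃ z, Sol x y T z) → ∃ z, Sol x y U z := by
    intro T hT hTU hne ⟨z₁, hz₁⟩
    have hW := hU.sdiff hx hy hT hTU
    rcases ih _ (Finset.sdiff_ssubset hTU hne) hW with ⟨z₂, hz₂⟩ | ⟨w, hw4, hw⟩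
    · exact ⟨_, union_sdiff_of_subset hTU ▸ hz₁.union hz₂ hT.1 hW.1 disjoint_sdiff⟩
    · exact absurd hw4 (h4 w (sdiff_subset (hw ▸ (by simp [T4] : w ∈ T4 x y w))))
  by_cases hbx : ∃ u ∈ U, x u = u ∧ Even (per x y u)
  · have hby : ∃ u ∈ U, y u = u ∧ Even (per x y u) := by
      by_contra hby
      push Not at hby
      have e := good_count hx hy hU.1
      have e2 := hU.2
      rw [show (U.filter fun u => y u = u ∧ Odd (per x y u)) = U.filter fun u => y u = u from
        filter_congr fun u hu => ⟨fun h => h.1, fun h => ⟨h, Nat.not_even_iff_odd.1 (hby u hu h)⟩⟩] at e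
      obtain ⟨u, hu, hxu, hev⟩ := hbx
      have hlt : (U.filter fun u => x u = u ∧ Odd (per x y u)).card < (U.filter fun u => x u = u).card := by
        refine Finset.card_lt_card ((Finset.ssubset_iff_of_subset ?_).2 ⟨u, by simp [hu, hxu], ?_⟩)
        · intro t ht; simp only [mem_filter] at ht ⊢; exact ⟨ht.1, ht.2.1⟩
        · simp only [mem_filter, not_and]
          exact fun _ _ => Nat.not_odd_iff_even.2 hev
      omega
    obtain ⟨c, hc, hxc, hce⟩ := hbx
    obtain ⟨a, ha, hya, hae⟩ := hby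
    obtain ⟨hb, hs⟩ := pair_gadget hx hy hya hae hxc hce
    exact step _ hb (union_subset (hU.1.Orb_subset hx hy ha) (hU.1.Orb_subset hx hy hc))
      ⟨a, mem_union_left _ (self_mem_Orb hx hy a)⟩ hs
  push Not at hbx
  have hby : ∀ u ∈ U, y u = u → ¬ Even (per x y u) := by
    intro a ha hya hae
    have e := good_count hx hy hU.1
    have e2 := hU.2
    rw [show (U.filter fun u => x u = u ∧ Odd (per x y u)) = U.filter fun u => x u = u from
      filter_congr fun u hu => ⟨fun h => h.1, fun h => ⟨h, Nat.not_even_iff_odd.1 (hbx u hu h)⟩⟩] at e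
    have hlt : (U.filter fun u => y u = u ∧ Odd (per x y u)).card < (U.filter fun u => y u = u).card := by
      refine Finset.card_lt_card ((Finset.ssubset_iff_of_subset ?_).2 ⟨a, by simp [ha, hya], ?_⟩)
      · intro t ht; simp only [mem_filter] at ht ⊢; exact ⟨ht.1, ht.2.1⟩
      · simp only [mem_filter, not_and]
        exact fun _ _ => Nat.not_odd_iff_even.2 hae
    omega
  by_cases hb : ∃ v ∈ U, Even (per x y v)
  · obtain ⟨v, hv, hev⟩ := hb
    have hxv : x v ∉ Orb x y v := by
      intro hm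
      obtain ⟨d, hd⟩ := (mem_Orb hx hy).1 hm
      rcases Nat.even_or_odd d with ⟨i, hi⟩ | ⟨i, hi⟩
      · refine hbx _ (hU.1.Orb_subset hx hy hv ((mem_Orb hx hy).2 ⟨i, rfl⟩)) ?_
          (by rw [per_iterate hx hy]; exact hev)
        apply (pp_inj hx hy).iterate i
        rw [it_x_it hx hy, ← hd, hi, iterate_add_apply]
      · refine hby _ (hU.1.Orb_subset hx hy hv ((mem_Orb hx hy).2 ⟨i + 1, rfl⟩)) ?_
          (by rw [per_iterate hx hy]; exact hev)
        apply (pp_inj hx hy).iterate (i + 1)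
        rw [y_eq (y := y) hx, ← iterate_succ_apply, iterate_succ_apply', it_x_it hx hy, ← hd,
          ← iterate_succ_apply' (pp x y), ← iterate_add_apply]
        congr 1; omega
    have hk4 : 4 ≤ per x y v := by
      obtain ⟨c, hc⟩ := hev
      have hp := per_pos hx hy v
      by_contra hlt
      have hk2 : per x y v = 2 := by omega
      refine h4 v hv ⟨?_, ?_, ?_, ?_⟩
      · have := it_per (x := x) (y := y) v; rwa [hk2] at this
      · intro e
        exact absurd (it_inj (v := v) (i := 1) (j := 0) (by omega) (by omega) e) (by omega)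
      · exact fun e => hxv (by rw [e]; exact self_mem_Orb hx hy v)
      · exact fun e => hxv (by rw [e]; exact Orb_pp hx hy (self_mem_Orb hx hy v))
    obtain ⟨hb, hs⟩ := cycle_gadget hx hy hxv hev hk4
    exact step _ hb (union_subset (hU.1.Orb_subset hx hy hv) (hU.1.Orb_subset hx hy (hU.1 v hv).1))
      ⟨v, mem_union_left _ (self_mem_Orb hx hy v)⟩ hs
  push Not at hb
  exact ⟨x, fun u hu => (hU.1 u hu).1, fun u _ => hx u, fun u _ => .of_fix (hx u),
    fun u hu => ⟨per x y u, Nat.not_even_iff_odd.1 (hb u hu), it_per u⟩, rfl⟩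

end Cfsg.Agent.OddProdSn

end
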