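import Mathlib
import Cfsg.Agent.WeakClosure.Local
import Cfsg.Agent.PLocalB.Replacement
import Cfsg.Agent.Fus2.Frattini

/-!
# Glauberman's factorization for the powers of a normal abelian subgroup

If `W` is a normal abelian `p`-subgroup of `L`, `T` a Sylow subgroup of `L` and `Z ⊆ W` is centralized
by `T`, then every fusion map of `T` in `L` is a map centralizing the `p`-th powers of `Z` followed by
one normalizing `J(T)`.
-/

set_option autoImplicit false
set_option linter.style.haveILetI false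

namespace Cfsg.Agent.Fus2

open Cfsg
open scoped Pointwise commutatorElement

/-- An abelian subgroup of largest order gives an element of a normal abelian `W`'s nontrivial action
that fixes all `p`-th powers. -/
theorem exists_fix_pow_of_not_le {P : Type*} [Group P] [Finite P] {p : ℕ} [Fact p.Prime]
    (hP : IsPGroup p P) (W : Subgroup P) [W.Normal] (hW : ∀ a ∈ W, ∀ b ∈ W, a * b = b * a)
    (hJ : ¬ thompsonSubgroupA P ≤ Subgroup.centralizer (W : Set P)) :
    ∃ a : P, a ∉ Subgroup.centralizer (W : Set P) ∧ ∀ w ∈ W, Commute a (w ^ p) := by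
  classical
  have hWc : IsMulCommutative W := ⟨⟨fun a b => Subtype.ext (hW a a.2 b b.2)⟩⟩
  obtain ⟨A, ⟨hA, hAW⟩, hmax⟩ : ∃ A ∈ {A | A ∈ maxAbelianSubgroups P ∧ ¬ A ≤ Subgroup.centralizer (W : Set P)},
      ∀ B ∈ {A | A ∈ maxAbelianSubgroups P ∧ ¬ A ≤ Subgroup.centralizer (W : Set P)},
        Nat.card ↥(B ⊓ W) ≤ Nat.card ↥(A ⊓ W) := by
    refine Set.exists_max_image _ _ (Set.toFinite _) ?_
    by_contra hne
    exact hJ (sSup_le fun A hA => by_contra fun h => hne ⟨A, hA, h⟩)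
  haveI := hA.1
  have hcA : ∀ x ∈ A, ∀ y ∈ A, x * y = y * x := fun x hx y hy =>
    congrArg Subtype.val (hA.1.is_comm.comm ⟨x, hx⟩ ⟨y, hy⟩)
  by_cases hN : W ≤ Subgroup.normalizer (A : Set P)
  · obtain ⟨a0, ha0, ha0W⟩ := SetLike.not_le_iff_exists.1 hAW
    obtain ⟨i, hi, hip⟩ := exists_pow_mem (p := p) (S := (⊤ : Subgroup P)) (hP.to_subgroup ⊤)
      (Subgroup.mem_top a0) ha0W
    refine ⟨a0 ^ i, hi, fun w hw => ?_⟩
    have ha : a0 ^ i ∈ A := A.pow_mem ha0 i
    generalize a0 ^ i = a at hi hip ha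
    set d := a * w * a⁻¹ * w⁻¹ with hd
    have hdW : d ∈ W := W.mul_mem ((inferInstance : W.Normal).conj_mem w hw a) (W.inv_mem hw)
    have hdA : d ∈ A := by
      rw [hd, mul_assoc a, mul_assoc a]
      exact A.mul_mem ha ((Subgroup.mem_normalizer_iff.1 (hN hw) _).1 (A.inv_mem ha))
    have hda : a * d * a⁻¹ = d := by rw [hcA a ha d hdA, mul_inv_cancel_right]
    have hdw : Commute d w := hW d hdW w hw
    have key : ∀ k : ℕ, a ^ k * w * (a ^ k)⁻¹ = d ^ k * w := by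
      intro k
      induction k with
      | zero => simp
      | succ k ih =>
        calc a ^ (k + 1) * w * (a ^ (k + 1))⁻¹ = a * (a ^ k * w * (a ^ k)⁻¹) * a⁻¹ := by
              rw [pow_succ']; group
          _ = (a * d * a⁻¹) ^ k * (a * w * a⁻¹) := by rw [ih, conj_pow]; group
          _ = d ^ (k + 1) * w := by rw [hda, pow_succ, hd]; group
    have hdp : d ^ p = 1 := by
      have h1 := key p
      rw [← Subgroup.mem_centralizer_iff.1 hip w hw, mul_inv_cancel_right] at h1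
      exact right_eq_mul.1 h1 ▸ rfl
    have h2 : a * w * a⁻¹ = d * w := by rw [hd]; group
    have h3 : a * w ^ p * a⁻¹ = w ^ p := by
      rw [← conj_pow, h2, hdw.mul_pow, hdp, one_mul]
    exact mul_inv_eq_iff_eq_mul.1 h3
  · exfalso
    have hW0 : ⁅W, W⁆ ≤ A := by
      refine Subgroup.commutator_le.2 fun x hx y hy => ?_
      rw [commutatorElement_def, hW x hx y hy, mul_inv_cancel_right, mul_inv_cancel]
      exact one_mem _
    obtain ⟨b, hb, hbN, hbA⟩ := PLocalB.exists_normalizing_element hP W A hN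
    obtain ⟨hcard, hcomm, -, hlt, -, -, hRN, -, -, -⟩ :=
      PLocalB.glauberman_replacement hP W (fun _ => hWc) A hA.1 hW0 b hb hbN hbA
    have hR : PLocalB.repl A b ∈ maxAbelianSubgroups P :=
      ⟨hcomm, fun B hB => hcard ▸ hA.2 B hB⟩
    have hRW : PLocalB.repl A b ≤ Subgroup.centralizer (W : Set P) := by
      by_contra hnle
      refine (hmax _ ⟨hR, hnle⟩).not_gt (lt_of_le_of_ne (Subgroup.card_le_of_le hlt.le) fun he => ?_)
      exact hlt.ne (Subgroup.eq_of_le_of_card_ge hlt.le he.ge)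
    refine hbA (hRN ?_)
    have he := Subgroup.eq_of_le_of_card_ge
      (le_sup_left : PLocalB.repl A b ≤ PLocalB.repl A b ⊔ Subgroup.zpowers b)
      (hR.2 _ (PLocalB.isMulCommutative_sup_zpowers hcomm fun r hr =>
        (Subgroup.mem_centralizer_iff.1 (hRW hr) b hb).symm))
    rw [he]
    exact Subgroup.mem_sup_right (Subgroup.mem_zpowers b)

variable {G : Type*} [Group G] [Finite G] {p : ℕ} [Fact p.Prime]

/-- Sylow's theorem inside a subgroup. -/
theorem exists_conj_le {T N X : Subgroup G} (hT : IsPGroup p T) (hTN : T ≤ N)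
    (hidx : ¬ p ∣ T.relIndex N) (hX : IsPGroup p X) (hXN : X ≤ N) :
    ∃ y ∈ N, ∀ x ∈ X, y * x * y⁻¹ ∈ T := by
  set P : Sylow p N :=
    (hT.comap_of_injective N.subtype N.subtype_injective : IsPGroup p (T.subgroupOf N)).toSylow hidx
  obtain ⟨Q, hQ⟩ := (hX.comap_of_injective N.subtype N.subtype_injective :
    IsPGroup p (X.subgroupOf N)).exists_le_sylow
  obtain ⟨y, hy⟩ := MulAction.exists_smul_eq N Q P
  refine ⟨y, y.2, fun x hx => ?_⟩
  have h1 : y * ⟨x, hXN hx⟩ * y⁻¹ ∈ (P : Subgroup N) := by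
    rw [← hy, Sylow.coe_subgroup_smul]
    exact ⟨⟨x, hXN hx⟩, hQ hx, rfl⟩
  exact h1

/-- A normalized centralizer. -/
theorem le_normalizer_inf_centralizer {L : Subgroup G} {X : Set G}
    (h : ∀ l ∈ L, ∀ x ∈ X, l * x * l⁻¹ ∈ X) :
    L ≤ Subgroup.normalizer ((L ⊓ Subgroup.centralizer X : Subgroup G) : Set G) := fun l hl => by
  refine PLocalB.mem_normalizer_of_conj_mem _ l fun c hc => ⟨?_, ?_⟩
  · exact L.mul_mem (L.mul_mem hl hc.1) (L.inv_mem hl)
  · refine Subgroup.mem_centralizer_iff.2 fun x hx => ?_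
    have h' := h _ (L.inv_mem hl) x hx
    rw [inv_inv] at h'
    calc x * (l * c * l⁻¹) = l * (l⁻¹ * x * l * c) * l⁻¹ := by group
      _ = l * (c * (l⁻¹ * x * l)) * l⁻¹ := by rw [Subgroup.mem_centralizer_iff.1 hc.2 _ h']
      _ = l * c * l⁻¹ * x := by group

/-- Splitting a fusion map along a normal subgroup. -/
theorem split_map {L T C : Subgroup G} (hT : IsPGroup p T) (hTL : T ≤ L) (hidx : ¬ p ∣ T.relIndex L)
    (hCL : C ≤ L) (hLC : L ≤ Subgroup.normalizer (C : Set G)) {g : G} (hg : g ∈ L) {R : Subgroup G}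
    (hR : R ≤ T) (hgR : ∀ r ∈ R, g * r * g⁻¹ ∈ T) :
    ∃ d ∈ C, ∃ n ∈ L, n ∈ Subgroup.normalizer ((T ⊓ C : Subgroup G) : Set G) ∧ g = n * d ∧
      ∀ r ∈ R, d * r * d⁻¹ ∈ T := by
  obtain ⟨d, hd, n, hn, hnV, he⟩ := WeakClosure.frattini hTL hT hidx hCL hLC (L.inv_mem hg)
  have hgd : g = n⁻¹ * d⁻¹ := by rw [← mul_inv_rev, ← he, inv_inv]
  have hTV : T ≤ Subgroup.normalizer ((T ⊓ C : Subgroup G) : Set G) := fun t ht =>
    PLocalB.mem_normalizer_of_conj_mem _ t fun x hx =>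
      ⟨T.mul_mem (T.mul_mem ht hx.1) (T.inv_mem ht),
        (Subgroup.mem_normalizer_iff.1 (hLC (hTL ht)) x).1 hx.2⟩
  let N1 := L ⊓ Subgroup.normalizer ((T ⊓ C : Subgroup G) : Set G) ⊓ (T ⊔ C)
  have hTN1 : T ≤ N1 := le_inf (le_inf hTL hTV) le_sup_left
  have hidx1 : ¬ p ∣ T.relIndex N1 := fun h => hidx (h.trans
    ⟨_, (Subgroup.relIndex_mul_relIndex T N1 L hTN1 (inf_le_left.trans inf_le_left)).symm⟩)
  let X := R.map (MulAut.conj d⁻¹).toMonoidHom
  have hXN : X ≤ N1 := by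
    rintro _ ⟨r, hr, rfl⟩
    show d⁻¹ * r * d⁻¹⁻¹ ∈ N1
    have e : d⁻¹ * r * d⁻¹⁻¹ = n * (g * r * g⁻¹) * n⁻¹ := by rw [hgd]; group
    refine Subgroup.mem_inf.2 ⟨Subgroup.mem_inf.2 ⟨?_, ?_⟩, ?_⟩
    · exact L.mul_mem (L.mul_mem (L.inv_mem (hCL hd)) (hTL (hR hr))) (L.inv_mem (L.inv_mem (hCL hd)))
    · rw [e]
      exact mul_mem (mul_mem hnV (hTV (hgR r hr))) (inv_mem hnV)
    · have h1 : d⁻¹ ∈ T ⊔ C := Subgroup.mem_sup_right (C.inv_mem hd)
      exact mul_mem (mul_mem h1 (Subgroup.mem_sup_left (hR hr))) (inv_mem h1)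
  obtain ⟨y, hy, hyX⟩ := exists_conj_le hT hTN1 hidx1 ((hT.to_le hR).map _) hXN
  have hy2 : y ∈ (T : Set G) * (C : Set G) := by
    rw [← Subgroup.coe_mul_of_left_le_normalizer_right T C (hTL.trans hLC)]
    exact hy.2
  obtain ⟨t, ht, c, hc, rfl⟩ := Set.mem_mul.1 hy2
  refine ⟨c * d⁻¹, C.mul_mem hc (C.inv_mem hd), n⁻¹ * c⁻¹,
    L.mul_mem (L.inv_mem hn) (L.inv_mem (hCL hc)), ?_, by rw [hgd]; group, fun r hr => ?_⟩
  · refine mul_mem (inv_mem hnV) (inv_mem ?_)
    have := mul_mem (inv_mem (hTV ht)) hy.1.2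
    rwa [inv_mul_cancel_left] at this
  · have := T.mul_mem (T.mul_mem (T.inv_mem ht) (hyX _ ⟨r, hr, rfl⟩)) ht
    rw [show t⁻¹ * (t * c * (MulAut.conj d⁻¹).toMonoidHom r * (t * c)⁻¹) * t
      = c * d⁻¹ * r * (c * d⁻¹)⁻¹ by
        rw [MulEquiv.coe_toMonoidHom, MulAut.conj_apply]; group] at this
    exact this

/-- Glauberman's factorization. -/
theorem powers_factor {T : Subgroup G} (hT : IsPGroup p T) (Z : Set G)
    (hZT : ∀ z ∈ Z, z ∈ Subgroup.centralizer (T : Set G)) :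
    ∀ (W L : Subgroup G), T ≤ L → ¬ p ∣ T.relIndex L → W ≤ T →
      L ≤ Subgroup.normalizer (W : Set G) → (∀ a ∈ W, ∀ b ∈ W, a * b = b * a) → (∀ z ∈ Z, z ∈ W) →
      ∀ g ∈ L, ∀ R ≤ T, (∀ r ∈ R, g * r * g⁻¹ ∈ T) →
        ∃ n c, g = n * c ∧ n ∈ L ∧ c ∈ L ∧ (∀ z ∈ Z, Commute c (z ^ p)) ∧
          (∀ r ∈ R, c * r * c⁻¹ ∈ T) ∧
          n ∈ Subgroup.normalizer (thompsonSubgroupAOf T : Set G) := by
  intro W
  induction hk : Nat.card W using Nat.strong_induction_on generalizing W with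
  | _ k IH =>
  subst hk
  intro L hTL hidx hWT hLW hab hZW g hg R hR hgR
  have hconjW : ∀ l ∈ L, ∀ w ∈ W, l * w * l⁻¹ ∈ W := fun l hl w hw =>
    (Subgroup.mem_normalizer_iff.1 (hLW hl) w).1 hw
  by_cases hJ : thompsonSubgroupAOf T ≤ Subgroup.centralizer (W : Set G)
  · obtain ⟨d, hd, n, hn, hnV, he, hdR⟩ := split_map hT hTL hidx inf_le_left
      (le_normalizer_inf_centralizer hconjW) hg hR hgR
    refine ⟨n, d, he, hn, hd.1, fun z hz => ?_, hdR, ?_⟩
    · exact (Subgroup.mem_centralizer_iff.1 hd.2 _ (W.pow_mem (hZW z hz) p)).symm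
    · rw [← WeakClosure.thompsonA_eq_of_between
        (le_inf (WeakClosure.thompsonA_le T) (le_inf ((WeakClosure.thompsonA_le T).trans hTL) hJ))
        (inf_le_left : T ⊓ (L ⊓ Subgroup.centralizer (W : Set G)) ≤ T)]
      exact WeakClosure.normalizer_le_normalizer_thompsonA _ hnV
  · let X : Set G := (fun w => w ^ p) '' (W : Set G)
    have hX : ∀ l ∈ L, ∀ x ∈ X, l * x * l⁻¹ ∈ X := by
      rintro l hl _ ⟨w, hw, rfl⟩
      exact ⟨l * w * l⁻¹, hconjW l hl w hw, conj_pow ..⟩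
    let V := T ⊓ (L ⊓ Subgroup.centralizer X)
    obtain ⟨d, hd, n, hn, hnV, he, hdR⟩ := split_map hT hTL hidx inf_le_left
      (le_normalizer_inf_centralizer hX) hg hR hgR
    have hcd : ∀ z ∈ Z, Commute d (z ^ p) := fun z hz =>
      (Subgroup.mem_centralizer_iff.1 hd.2 _ ⟨z, hZW z hz, rfl⟩).symm
    -- an element of `V` moving `W`
    obtain ⟨a, haV, haW⟩ : ∃ a ∈ V, ∃ w ∈ W, w * a ≠ a * w := by
      haveI : (W.subgroupOf T).Normal :=
        (Subgroup.normal_subgroupOf_iff_le_normalizer hWT).2 (hTL.trans hLW)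
      obtain ⟨a, ha, hfix⟩ := exists_fix_pow_of_not_le hT (W.subgroupOf T)
        (fun x hx y hy => Subtype.ext (hab x hx y hy)) fun hle => hJ (by
          rintro _ ⟨j, hj, rfl⟩
          exact Subgroup.mem_centralizer_iff.2 fun w hw => congrArg Subtype.val
            (Subgroup.mem_centralizer_iff.1 (hle hj) ⟨w, hWT hw⟩ hw))
      refine ⟨a, ⟨a.2, hTL a.2, Subgroup.mem_centralizer_iff.2 ?_⟩, ?_⟩
      · rintro _ ⟨w, hw, rfl⟩
        exact (congrArg Subtype.val (hfix ⟨w, hWT hw⟩ hw).eq).symm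
      · by_contra hcon
        push Not at hcon
        exact ha (Subgroup.mem_centralizer_iff.2 fun w hw => Subtype.ext (hcon w hw))
    let L' := L ⊓ Subgroup.normalizer (V : Set G)
    let W' := W ⊓ Subgroup.centralizer (V : Set G)
    have hlt : W' < W := lt_of_le_of_ne inf_le_left fun h => by
      obtain ⟨w, hw, hne⟩ := haW
      exact hne (Subgroup.mem_centralizer_iff.1 (h.ge hw).2 a haV).symm
    have hTL' : T ≤ L' := le_inf hTL fun t ht => PLocalB.mem_normalizer_of_conj_mem _ t fun x hx =>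
      ⟨T.mul_mem (T.mul_mem ht hx.1) (T.inv_mem ht),
        (Subgroup.mem_normalizer_iff.1 (le_normalizer_inf_centralizer hX (hTL ht)) x).1 hx.2⟩
    obtain ⟨n', c', he', hn', hc', hcZ, hcR, hnJ⟩ := IH (Nat.card W')
      (lt_of_le_of_ne (Subgroup.card_le_of_le hlt.le) fun h =>
        hlt.ne (Subgroup.eq_of_le_of_card_ge hlt.le h.ge))
      W' rfl L' hTL'
      (fun h => hidx (h.trans ⟨_, (Subgroup.relIndex_mul_relIndex T L' L hTL' inf_le_left).symm⟩))
      (inf_le_left.trans hWT)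
      (fun l hl => PLocalB.mem_normalizer_of_conj_mem _ l fun w hw => ⟨hconjW l hl.1 w hw.1,
        Subgroup.mem_centralizer_iff.2 fun v hv => by
          have h' := (Subgroup.mem_normalizer_iff.1 (inv_mem hl.2) v).1 hv
          rw [inv_inv] at h'
          calc v * (l * w * l⁻¹) = l * (l⁻¹ * v * l * w) * l⁻¹ := by group
            _ = l * (w * (l⁻¹ * v * l)) * l⁻¹ := by rw [Subgroup.mem_centralizer_iff.1 hw.2 _ h']
            _ = l * w * l⁻¹ * v := by group⟩)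
      (fun x hx y hy => hab x hx.1 y hy.1)
      (fun z hz => ⟨hZW z hz, Subgroup.centralizer_le (inf_le_left : V ≤ T) (hZT z hz)⟩)
      n ⟨hn, hnV⟩ (R.map (MulAut.conj d).toMonoidHom)
      (by rintro _ ⟨r, hr, rfl⟩; exact hdR r hr)
      (by
        rintro _ ⟨r, hr, rfl⟩
        have := hgR r hr
        rw [he] at this
        rw [show n * (MulAut.conj d).toMonoidHom r * n⁻¹ = n * d * r * (n * d)⁻¹ by
          rw [MulEquiv.coe_toMonoidHom, MulAut.conj_apply]; group]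
        exact this)
    refine ⟨n', c' * d, by rw [he, he', mul_assoc], hn'.1, L.mul_mem hc'.1 hd.1,
      fun z hz => (hcZ z hz).mul_left (hcd z hz), fun r hr => ?_, hnJ⟩
    have := hcR _ ⟨r, hr, rfl⟩
    rw [show c' * (MulAut.conj d).toMonoidHom r * c'⁻¹ = c' * d * r * (c' * d)⁻¹ by
      rw [MulEquiv.coe_toMonoidHom, MulAut.conj_apply]; group] at this
    exact this

end Cfsg.Agent.Fus2
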