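import Cfsg.Prelude.Def_PLocal
import Mathlib.Algebra.CharP.Lemmas
import Mathlib.RingTheory.Nilpotent.Basic
import Mathlib.RingTheory.Polynomial.Basic
import Mathlib.RingTheory.Ideal.Quotient.Operations

/-!
# `p^n`-th powers are fixed by an action of bounded nilpotence degree

If an automorphism of order `p` of an abelian group has `(τ - 1)^(n(p-1)+1) = 0`, it fixes all
`p^n`-th powers.
-/

set_option autoImplicit false
set_option linter.style.haveILetI false

namespace Cfsg.Agent.Fus2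

open Polynomial

theorem natPow_mul_eq_zero_of_nilpotent {A : Type*} [CommRing A] {p : ℕ} (hp : p.Prime) {n : ℕ}
    {d : A} (hd : d ^ (n * (p - 1) + 1) = 0) (h1 : (1 + d) ^ p = 1) : (p : A) ^ n * d = 0 := by
  obtain ⟨r, hr⟩ := exists_add_pow_prime_eq hp (1 : ℤ[X]) X
  have hp2 := hp.two_le
  have hr0 : r.coeff 0 = 1 := by
    have h := congrArg (fun P : ℤ[X] => P.coeff 1) hr
    simp only [coeff_one_add_X_pow, Nat.choose_one_right, one_pow, coeff_add, mul_one] at h
    have hc : ((p : ℤ[X]) * X * r).coeff 1 = (p : ℤ) * r.coeff 0 := by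
      rw [mul_assoc, ← map_natCast (C : ℤ →+* ℤ[X]), coeff_C_mul, coeff_X_mul]
    rw [coeff_one, coeff_X_pow, if_neg (by omega), if_neg (by omega), hc] at h
    have : (p : ℤ) ≠ 0 := by exact_mod_cast hp.ne_zero
    exact mul_left_cancel₀ this (by rw [mul_one]; simpa using h.symm)
  have hev := congrArg (aeval d) hr
  simp only [map_add, map_pow, map_one, aeval_X, map_mul, map_natCast, one_pow, mul_one, h1] at hev
  have hu : IsUnit (aeval d r) := by
    have h2 := congrArg (aeval d) (X_mul_divX_add r)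
    simp only [map_add, map_mul, aeval_X, hr0, map_one] at h2
    rw [← h2, add_comm]
    exact IsNilpotent.isUnit_one_add ⟨n * (p - 1) + 1, by rw [mul_pow, hd, zero_mul]⟩
  obtain ⟨u, hu⟩ := hu
  have hkey : (p : A) * d = -(d ^ p) * (↑u⁻¹ : A) := by
    rw [← Units.mul_left_inj u, mul_assoc _ (↑u⁻¹ : A), Units.inv_mul, mul_one, hu]
    linear_combination hev.symm
  have hall : ∀ j : ℕ, (p : A) ^ j * d = (-(↑u⁻¹ : A)) ^ j * d ^ (j * (p - 1) + 1) := by
    intro j
    induction j with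
    | zero => simp
    | succ j ih =>
      calc (p : A) ^ (j + 1) * d = (p : A) * ((p : A) ^ j * d) := by ring
        _ = (-(↑u⁻¹ : A)) ^ j * d ^ (j * (p - 1)) * ((p : A) * d) := by rw [ih]; ring
        _ = (-(↑u⁻¹ : A)) ^ (j + 1) * d ^ (j * (p - 1) + p) := by rw [hkey]; ring
        _ = _ := by
          congr 2
          rw [add_mul, one_mul]
          omega
  rw [hall n, hd, mul_zero]

variable {Ω : Type*} [Group Ω]

/-- The map `w ↦ [g, w]` on an ambient group. -/
def commMap (g : Ω) (w : Ω) : Ω := g * w * g⁻¹ * w⁻¹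

theorem conj_fix_pow {W : Subgroup Ω} (hab : ∀ x ∈ W, ∀ y ∈ W, x * y = y * x) {g : Ω}
    (hg : ∀ w ∈ W, g * w * g⁻¹ ∈ W) {p : ℕ} (hp : p.Prime) (hgp : ∀ w ∈ W, g ^ p * w = w * g ^ p)
    {n : ℕ} (hit : ∀ w ∈ W, (commMap g)^[n * (p - 1) + 1] w = 1) {w : Ω} (hw : w ∈ W) :
    g * w ^ p ^ n * g⁻¹ = w ^ p ^ n := by
  letI : CommGroup W := { (inferInstance : Group W) with mul_comm := fun a b => Subtype.ext (hab a a.2 b b.2) }
  let τ : AddMonoid.End (Additive W) := AddMonoidHom.mk' (fun a => Additive.ofMul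
    (⟨g * (a.toMul : Ω) * g⁻¹, hg _ a.toMul.2⟩ : W)) fun a b => congrArg Additive.ofMul <| Subtype.ext <| by
      show g * ((a.toMul : Ω) * b.toMul) * g⁻¹ = g * (a.toMul : Ω) * g⁻¹ * (g * b.toMul * g⁻¹)
      group
  have hpow : ∀ (k : ℕ) (a : Additive W), (((τ ^ k) a).toMul : Ω) = g ^ k * a.toMul * (g ^ k)⁻¹ := by
    intro k
    induction k with
    | zero => intro a; simp
    | succ k ih =>
      intro a
      rw [pow_succ]
      show (((τ ^ k) (τ a)).toMul : Ω) = _
      rw [ih, pow_succ]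
      show g ^ k * (g * (a.toMul : Ω) * g⁻¹) * (g ^ k)⁻¹ = _
      group
  have hτp : τ ^ p = 1 := DFunLike.ext _ _ fun a => Additive.toMul.injective <| Subtype.ext <| by
    rw [hpow, hgp _ a.toMul.2, mul_inv_cancel_right]
    rfl
  have hd : ∀ (k : ℕ) (a : Additive W), ((((τ - 1) ^ k) a).toMul : Ω) = (commMap g)^[k] a.toMul := by
    intro k
    induction k with
    | zero => intro a; rfl
    | succ k ih =>
      intro a
      rw [pow_succ, Function.iterate_succ_apply]
      show ((((τ - 1) ^ k) ((τ - 1) a)).toMul : Ω) = _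
      rw [ih]
      congr 1
      show ((g * (a.toMul : Ω) * g⁻¹) / (a.toMul : Ω)) = _
      rw [div_eq_mul_inv]
      rfl
  have hnil : (τ - 1) ^ (n * (p - 1) + 1) = 0 := DFunLike.ext _ _ fun a => Additive.toMul.injective <|
    Subtype.ext <| (hd _ a).trans (hit _ a.toMul.2)
  -- transfer the identity through the commutative ring generated by `τ`
  let I : Ideal ℤ[X] := RingHom.ker (aeval τ).toRingHom
  have hmem : ∀ P : ℤ[X], aeval τ P = 0 → Ideal.Quotient.mk I P = 0 := fun P h =>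
    Ideal.Quotient.eq_zero_iff_mem.2 h
  have hz := natPow_mul_eq_zero_of_nilpotent hp (n := n) (d := Ideal.Quotient.mk I (X - 1))
    (by rw [← map_pow]; exact hmem _ (by simpa using hnil))
    (by
      rw [← sub_eq_zero, ← map_one (Ideal.Quotient.mk I), ← map_add, ← map_pow, ← map_sub]
      exact hmem _ (by simp [hτp]))
  rw [← map_natCast (Ideal.Quotient.mk I), ← map_pow, ← map_mul, Ideal.Quotient.eq_zero_iff_mem] at hz
  have hz' : ((p ^ n : ℕ) : AddMonoid.End (Additive W)) * (τ - 1) = 0 := by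
    simpa [I, RingHom.mem_ker] using hz
  have happ := congrArg (fun φ : AddMonoid.End (Additive W) => φ (Additive.ofMul (⟨w, hw⟩ : W))) hz'
  change (p ^ n) • ((τ - 1) (Additive.ofMul (⟨w, hw⟩ : W))) = 0 at happ
  have happ' : (p ^ n) • τ (Additive.ofMul (⟨w, hw⟩ : W)) = (p ^ n) • Additive.ofMul (⟨w, hw⟩ : W) := by
    have e : (τ - 1) (Additive.ofMul (⟨w, hw⟩ : W)) =
        τ (Additive.ofMul (⟨w, hw⟩ : W)) - Additive.ofMul (⟨w, hw⟩ : W) := rfl
    rwa [e, smul_sub, sub_eq_zero] at happ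
  have h2 : (g * w * g⁻¹) ^ p ^ n = w ^ p ^ n :=
    congrArg (fun a : Additive W => ((a.toMul : W) : Ω)) happ'
  rwa [conj_pow] at h2

/-- The same on the subgroup generated by the `p^n`-th powers. -/
theorem conj_fix_powerClosure {W : Subgroup Ω} (hab : ∀ x ∈ W, ∀ y ∈ W, x * y = y * x) {g : Ω}
    (hg : ∀ w ∈ W, g * w * g⁻¹ ∈ W) {p : ℕ} (hp : p.Prime) (hgp : ∀ w ∈ W, g ^ p * w = w * g ^ p)
    {n : ℕ} (hit : ∀ w ∈ W, (commMap g)^[n * (p - 1) + 1] w = 1) {x : Ω}
    (hx : x ∈ powerClosure p n W) : g * x * g⁻¹ = x := by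
  induction hx using Subgroup.closure_induction with
  | mem y hy =>
    obtain ⟨w, hw, rfl⟩ := hy
    exact conj_fix_pow hab hg hp hgp hit hw
  | one => simp
  | mul a b _ _ h1 h2 => rw [← conj_mul, h1, h2]
  | inv a _ h1 => rw [← conj_inv, h1]

end Cfsg.Agent.Fus2
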