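import Cfsg.Agent.CharDeep.Deg.ItoPSolvable
import Cfsg.Agent.Lib.CharCore.Linear
import Cfsg.Agent.Lib.PGroup.Basic

/-!
# Derived length of a Sylow subgroup and the number of characters of degree divisible by `p`

For a `p`-solvable group `G` with exactly `n` irreducible characters of degree divisible by `p`
the derived length of a Sylow `p`-subgroup is at most `n + 1`.
-/

set_option autoImplicit false
set_option linter.unusedSectionVars false

open scoped ComplexConjugate commutatorElement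

namespace Cfsg.Agent.Fus2.SingLen

universe u

variable {G : Type u} [Group G] [Finite G] {p : ℕ}

/-- A constituent of a character has every element of the kernel in its kernel. -/
theorem apply_eq_of_constituent [Fintype G] {χ : G → ℂ} (hχ : Cfsg.IsCharacter G χ)
    (θ : Cfsg.IrrCharacter G) (h : Cfsg.classInner χ θ ≠ 0) {a : G} (ha : χ a = χ 1) :
    (θ : G → ℂ) a = (θ : G → ℂ) 1 := by
  classical
  obtain ⟨m, hm⟩ := CharCore.IsCharacter.exists_sum hχ
  have hm0 : m θ ≠ 0 := fun h0 => h (by rw [hm, CharCore.classInner_sum_all, h0, Nat.cast_zero])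
  choose d hd using fun φ : Cfsg.IrrCharacter G =>
    CharCore.IsCharacter.exists_degree (CharCore.irr_isCharacter φ)
  have hle : ∀ φ : Cfsg.IrrCharacter G, ((φ : G → ℂ) a).re ≤ (d φ : ℝ) := fun φ => by
    have h1 := CharCore.IsCharacter.norm_apply_le (CharCore.irr_isCharacter φ) a
    rw [hd φ, Complex.norm_natCast] at h1
    exact (Complex.re_le_norm _).trans h1
  have hsum : ∑ φ, (m φ : ℝ) * ((φ : G → ℂ) a).re = ∑ φ, (m φ : ℝ) * (d φ : ℝ) := by
    rw [hm] at ha
    simp only [Finset.sum_apply, Pi.smul_apply, smul_eq_mul, hd] at ha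
    simpa using congrArg Complex.re ha
  have heq := (Finset.sum_eq_sum_iff_of_le
    fun φ _ => mul_le_mul_of_nonneg_left (hle φ) (Nat.cast_nonneg (m φ))).mp hsum θ
      (Finset.mem_univ θ)
  have hre : ((θ : G → ℂ) a).re = (d θ : ℝ) :=
    mul_left_cancel₀ (Nat.cast_ne_zero.mpr hm0) heq
  have hnorm := CharCore.IsCharacter.norm_apply_le (CharCore.irr_isCharacter θ) a
  rw [hd θ, Complex.norm_natCast] at hnorm
  have him : ((θ : G → ℂ) a).im = 0 :=
    Complex.abs_re_eq_norm.mp (le_antisymm (Complex.abs_re_le_norm _)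
      (by rw [hre, abs_of_nonneg (Nat.cast_nonneg _)]; exact hnorm))
  rw [hd θ]
  exact Complex.ext (by simpa using hre) (by simpa using him)

variable (p) in
/-- The irreducible characters of degree divisible by `p`. -/
abbrev Sing (G : Type u) [Group G] : Type u :=
  {χ : Cfsg.IrrCharacter G // p ∣ Cfsg.charDegree (χ : G → ℂ)}

/-- Inflation from a quotient on characters of degree divisible by `p`. -/
noncomputable def inflate (N : Subgroup G) [N.Normal] (θ : Sing p (G ⧸ N)) : Sing p G :=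
  ⟨⟨fun g => (θ.1 : G ⧸ N → ℂ) (QuotientGroup.mk' N g),
    CharCore.isIrrCharacter_comp_surjective θ.1.2 _ (QuotientGroup.mk'_surjective N)⟩,
    by
      have h : Cfsg.charDegree (fun g : G => (θ.1 : G ⧸ N → ℂ) (QuotientGroup.mk' N g)) =
          Cfsg.charDegree (θ.1 : G ⧸ N → ℂ) := by
        simp only [Cfsg.charDegree, map_one]
      simpa only [h] using θ.2⟩

theorem inflate_injective (N : Subgroup G) [N.Normal] :
    Function.Injective (inflate (p := p) N) := by
  intro θ θ' h
  refine Subtype.ext (Subtype.ext (funext fun x => ?_))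
  obtain ⟨g, rfl⟩ := QuotientGroup.mk'_surjective N x
  exact congrFun (congrArg (fun χ : Sing p G => (χ.1 : G → ℂ)) h) g

theorem finite_sing : Finite (Sing p G) := by
  haveI := Fintype.ofFinite G
  infer_instance

theorem card_quotient_le (N : Subgroup G) [N.Normal] :
    Nat.card (Sing p (G ⧸ N)) ≤ Nat.card (Sing p G) := by
  haveI := finite_sing (G := G) (p := p)
  exact Nat.card_le_card_of_injective _ (inflate_injective N)

theorem card_quotient_lt (N : Subgroup G) [N.Normal] (χ : Sing p G) {g : G} (hg : g ∈ N)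
    (hne : (χ.1 : G → ℂ) g ≠ (χ.1 : G → ℂ) 1) :
    Nat.card (Sing p (G ⧸ N)) + 1 ≤ Nat.card (Sing p G) := by
  classical
  haveI := finite_sing (G := G) (p := p)
  haveI := finite_sing (G := G ⧸ N) (p := p)
  haveI := Fintype.ofFinite (Sing p G)
  haveI := Fintype.ofFinite (Sing p (G ⧸ N))
  rw [Nat.card_eq_fintype_card, Nat.card_eq_fintype_card]
  refine Fintype.card_lt_of_injective_of_notMem (b := χ) _ (inflate_injective N) ?_
  rintro ⟨θ, rfl⟩
  refine hne ?_
  show (θ.1 : G ⧸ N → ℂ) (QuotientGroup.mk' N g) = (θ.1 : G ⧸ N → ℂ) (QuotientGroup.mk' N 1)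
  rw [map_one, QuotientGroup.mk'_apply, (QuotientGroup.eq_one_iff g).mpr hg]

/-- If a term of the derived series vanishes in the image, it lies in the kernel. -/
theorem derived_le [Fact p.Prime] (N : Subgroup G) [N.Normal] (P : Sylow p G) {k : ℕ}
    (h : ∀ Q : Sylow p (G ⧸ N), derivedSeries ↥(Q : Subgroup (G ⧸ N)) k = ⊥) :
    derivedSeries ↥(P : Subgroup G) k ≤ N.subgroupOf (P : Subgroup G) := by
  set π := QuotientGroup.mk' N with hπ
  have hQ := h (P.mapSurjective (QuotientGroup.mk'_surjective N))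
  rw [Sylow.coe_mapSurjective] at hQ
  intro x hx
  have h1 : π.subgroupMap (P : Subgroup G) x ∈ derivedSeries ↥((P : Subgroup G).map π) k := by
    rw [← map_derivedSeries_eq (π.subgroupMap_surjective (P : Subgroup G)) k]
    exact Subgroup.mem_map_of_mem _ hx
  rw [hQ, Subgroup.mem_bot] at h1
  rw [Subgroup.mem_subgroupOf, ← QuotientGroup.eq_one_iff]
  exact congrArg Subtype.val h1

/-- The derived series reaches the bottom one step after it enters an abelian subgroup. -/
theorem derived_succ_eq_bot {P A : Subgroup G} (hA : ∀ a ∈ A, ∀ b ∈ A, a * b = b * a) {k : ℕ}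
    (h : derivedSeries P k ≤ A.subgroupOf P) : derivedSeries P (k + 1) = ⊥ := by
  rw [derivedSeries_succ, Subgroup.commutator_eq_bot_iff_le_centralizer]
  intro x hx
  rw [Subgroup.mem_centralizer_iff]
  intro y hy
  exact Subtype.ext (hA _ (h hy) _ (h hx))

/-- A `p`-group normalising a normal `p'`-subgroup `N` and fixing every irreducible character
of `N` centralises `N`. -/
theorem centralizes_of_invariant [hp : Fact p.Prime] (N P : Subgroup G) [hNn : N.Normal]
    (hN : (Nat.card N).Coprime p) (hP : IsPGroup p P)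
    (hinv : ∀ (φ : Cfsg.IrrCharacter N), ∀ a ∈ P,
      CharClifford.conjFun N a (φ : N → ℂ) = (φ : N → ℂ)) :
    N ≤ Subgroup.centralizer (P : Set G) := by
  classical
  have := Fintype.ofFinite G
  have := Fintype.ofFinite N
  let C := N ⊓ Subgroup.centralizer (P : Set G)
  have hnorm : ∀ s ∈ P, ∀ g ∈ N, s * g * s⁻¹ ∈ N := fun s _ g hg => hNn.conj_mem g hg s
  have := Fintype.ofFinite C
  have hpN : ¬ p ∣ Fintype.card N := by
    rw [← Nat.card_eq_fintype_card]
    exact hp.out.coprime_iff_not_dvd.mp hN.symm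
  have hcov : ∀ g : N, ∃ c : N, c * g * c⁻¹ ∈ C.subgroupOf N := by
    intro g
    obtain ⟨c, hc⟩ := CharCore.exists_fixed_isConj (φ := CharCore.conjAut N P hnorm)
      (ι := Subgroup.inclusion (inf_le_left : C ≤ N))
      (fun x => CharCore.mem_range_inclusion_iff hnorm rfl inf_le_left x) hP
      (by rw [Nat.card_eq_fintype_card]; exact hpN) (g := g) (fun b => by
        rw [CharCore.isConj_iff_forall_irr]
        intro φ
        have h := congrFun (hinv φ b b.2) g
        rw [CharClifford.conjFun_apply] at h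
        exact h.symm)
    obtain ⟨d, hd⟩ := isConj_iff.mp hc
    refine ⟨d, ?_⟩
    rw [hd, Subgroup.mem_subgroupOf]
    exact c.2
  have htop := FG78.eq_top_of_conjugates_cover (C.subgroupOf N) hcov
  rw [Subgroup.subgroupOf_eq_top] at htop
  exact htop.trans inf_le_right

/-- For `Y` normal, `|Y : T ∩ Y|` divides `|G : T|`. -/
theorem relIndex_dvd_index_of_normal_right (T Y : Subgroup G) [Y.Normal] :
    T.relIndex Y ∣ T.index := by
  obtain ⟨k, hk⟩ := Subgroup.relIndex_dvd_index_of_normal Y T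
  have h1 := Subgroup.relIndex_mul_index (inf_le_left : T ⊓ Y ≤ T)
  have h2 := Subgroup.relIndex_mul_index (inf_le_right : T ⊓ Y ≤ Y)
  rw [Subgroup.inf_relIndex_left] at h1
  rw [Subgroup.inf_relIndex_right, ← h1, hk] at h2
  refine ⟨k, ?_⟩
  have h0 : 0 < Y.relIndex T :=
    Nat.pos_of_ne_zero fun h0 => Y.index_ne_zero_of_finite (by rw [hk, h0, zero_mul])
  exact Nat.eq_of_mul_eq_mul_left h0 (by rw [← h2]; ring)

/-- A character of `N` below an irreducible character of degree prime to `p` is fixed by the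
elements of a normal subgroup `Y` with `|Y : N|` a power of `p`. -/
theorem conjFun_eq_of_degree [hp : Fact p.Prime] (N Y : Subgroup G) [N.Normal] [Y.Normal]
    {m : ℕ} (hm : N.relIndex Y = p ^ m) [Fintype G] [Fintype N] (φ : Cfsg.IrrCharacter N)
    (χ : Cfsg.IrrCharacter G) (hover : Cfsg.classInner (fun x : N => (χ : G → ℂ) x) φ ≠ 0)
    (hdeg : ¬ p ∣ Cfsg.charDegree (χ : G → ℂ)) {a : G} (ha : a ∈ Y) :
    CharClifford.conjFun N a (φ : N → ℂ) = (φ : N → ℂ) := by
  classical
  obtain ⟨θ, e, hθ, he0, he, hres⟩ := CharClifford.clifford_restrict N χ.2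
  set O := CharClifford.conjOrbit N θ with hO
  have hφO : (φ : N → ℂ) ∈ O := by
    obtain ⟨x, hx⟩ := CharClifford.exists_conjFun_eq_of_constituents N χ.2 hθ φ.2
      (by rw [he]; exact_mod_cast he0.ne') hover
    exact (CharClifford.mem_conjOrbit N).mpr ⟨x, hx.symm⟩
  have hOmem : ∀ (b : G) (ψ : N → ℂ), ψ ∈ O → CharClifford.conjFun N b ψ ∈ O := by
    intro b ψ hψ
    obtain ⟨x, rfl⟩ := (CharClifford.mem_conjOrbit N).mp hψ
    exact (CharClifford.mem_conjOrbit N).mpr ⟨x * b, (CharClifford.conjFun_conjFun N b x θ).symm⟩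
  let act : MulAction G {ψ : N → ℂ // ψ ∈ O} :=
    { smul := fun b ψ => ⟨CharClifford.conjFun N b⁻¹ ψ, hOmem _ _ ψ.2⟩
      one_smul := fun ψ => Subtype.ext (show CharClifford.conjFun N (1 : G)⁻¹ _ = _ by
        rw [inv_one, CharClifford.conjFun_one])
      mul_smul := fun b c ψ => Subtype.ext (show CharClifford.conjFun N (b * c)⁻¹ _ =
          CharClifford.conjFun N b⁻¹ (CharClifford.conjFun N c⁻¹ _) by
        rw [CharClifford.conjFun_conjFun, mul_inv_rev]) }
  set T := MulAction.stabilizer G (⟨(φ : N → ℂ), hφO⟩ : {ψ : N → ℂ // ψ ∈ O}) with hT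
  have hidx : T.index = O.card := by
    rw [hT, MulAction.index_stabilizer]
    have huniv : MulAction.orbit G (⟨(φ : N → ℂ), hφO⟩ : {ψ : N → ℂ // ψ ∈ O}) = Set.univ := by
      refine Set.eq_univ_of_forall fun ψ => ?_
      obtain ⟨x, hx⟩ := (CharClifford.mem_conjOrbit N).mp ψ.2
      obtain ⟨y, hy⟩ := (CharClifford.mem_conjOrbit N).mp hφO
      refine ⟨(y⁻¹ * x)⁻¹, Subtype.ext ?_⟩
      show CharClifford.conjFun N ((y⁻¹ * x)⁻¹)⁻¹ (φ : N → ℂ) = (ψ : N → ℂ)
      rw [inv_inv, ← hy, CharClifford.conjFun_conjFun, mul_inv_cancel_left, hx]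
    rw [huniv, Set.ncard_univ, Nat.card_eq_fintype_card, Fintype.card_coe]
  have hNT : N ≤ T := by
    intro n hn
    exact Subtype.ext (CharClifford.conjFun_of_mem N (CharCore.irr_isClassFunction φ) (inv_mem hn))
  have hpO : ¬ p ∣ O.card := by
    intro hpO
    obtain ⟨d, -, hd⟩ := CharCore.IsIrrCharacter.exists_degree hθ
    have h1 : (χ : G → ℂ) 1 = ((e * (O.card * d) : ℕ) : ℂ) := by
      have h2 := congrFun hres 1
      simp only [Subgroup.coe_one, Pi.smul_apply, Finset.sum_apply, smul_eq_mul] at h2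
      rw [h2]
      have h3 : ∀ ψ ∈ O, ψ 1 = (d : ℂ) := by
        intro ψ hψ
        obtain ⟨x, rfl⟩ := (CharClifford.mem_conjOrbit N).mp hψ
        rw [CharClifford.conjFun_apply, ← hd]
        congr 1
        exact Subtype.ext (by simp)
      rw [Finset.sum_congr rfl h3, Finset.sum_const, nsmul_eq_mul]
      push_cast; ring
    exact hdeg (by
      rw [CharDeep.Deg.degree_of_eq h1]
      exact Dvd.dvd.mul_left (Dvd.dvd.mul_right hpO d) e)
  have h1 : T.relIndex Y ∣ p ^ m := hm ▸ Subgroup.relIndex_dvd_of_le_left Y hNT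
  have h2 : T.relIndex Y ∣ T.index := relIndex_dvd_index_of_normal_right T Y
  have h3 : T.relIndex Y = 1 := by
    refine Nat.eq_one_of_dvd_coprimes (Nat.Coprime.pow_left m ?_) h1 h2
    rw [hidx]
    exact hp.out.coprime_iff_not_dvd.mpr hpO
  have h4 : a⁻¹ ∈ T := Subgroup.relIndex_eq_one.mp h3 (inv_mem ha)
  have h5 : CharClifford.conjFun N (a⁻¹)⁻¹ (φ : N → ℂ) = (φ : N → ℂ) := congrArg Subtype.val h4
  rwa [inv_inv] at h5

/-- If `O_p(G) = 1` and all characters of degree divisible by `p` are trivial on `O_{p'}(G)`,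
then `G` is a `p'`-group. -/
theorem pPrimeCore_eq_top_of_trivial [hp : Fact p.Prime] (hsolv : Cfsg.IsPSolvable p G)
    (hO : Cfsg.pCore p G = ⊥)
    (htriv : ∀ χ : Cfsg.IrrCharacter G, p ∣ Cfsg.charDegree (χ : G → ℂ) →
      ∀ g ∈ Cfsg.pPrimeCore p G, (χ : G → ℂ) g = (χ : G → ℂ) 1) :
    Cfsg.pPrimeCore p G = ⊤ := by
  classical
  have := Fintype.ofFinite G
  set Q := Cfsg.pPrimeCore p G with hQdef
  set Y := Cfsg.pPrimePCore p G with hYdef
  have := Fintype.ofFinite Q
  have hQY : Q ≤ Y := Thompson.pPrimeCore_le_pPrimePCore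
  obtain ⟨m, hm⟩ : ∃ m : ℕ, Q.relIndex Y = p ^ m := by
    rw [Thompson.relIndex_eq_card_map_mk', Thompson.map_mk'_pPrimePCore]
    exact IsPGroup.iff_card.mp Thompson.isPGroup_pCore
  have hinv : ∀ (φ : Cfsg.IrrCharacter Q), ∀ a ∈ Y,
      CharClifford.conjFun Q a (φ : Q → ℂ) = (φ : Q → ℂ) := by
    intro φ a ha
    by_cases hφ : ∀ x : Q, (φ : Q → ℂ) x = (φ : Q → ℂ) 1
    · funext x
      rw [CharClifford.conjFun_apply, hφ, hφ x]
    push Not at hφ
    obtain ⟨x, hx⟩ := hφ
    obtain ⟨χ, hχ⟩ := CharCore.exists_over Q φ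
    refine conjFun_eq_of_degree Q Y hm φ χ hχ (fun hd => hx ?_) ha
    exact apply_eq_of_constituent (CharCore.isCharacter_restrict (CharCore.irr_isCharacter χ) Q)
      φ hχ (by simpa using htriv χ hd x x.2)
  obtain ⟨S⟩ := (Sylow.nonempty : Nonempty (Sylow p ↥Y))
  set S' := (S : Subgroup ↥Y).map Y.subtype with hS'
  have hsup : Q ⊔ S' = Y := Thompson.sylow_pPrimePCore_sup (G := G) S
  have hS'Y : S' ≤ Y := Subgroup.map_subtype_le _
  have hcent : Q ≤ Subgroup.centralizer (S' : Set G) :=
    centralizes_of_invariant Q S' Thompson.card_pPrimeCore_coprime (S.isPGroup'.map _)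
      fun φ a ha => hinv φ a (hS'Y ha)
  have hYN : Y ≤ Subgroup.normalizer (S' : Set G) := by
    rw [← hsup]
    exact sup_le (hcent.trans (Subgroup.centralizer_le_normalizer _)) Subgroup.le_normalizer
  haveI hSn : (S : Subgroup ↥Y).Normal := by
    refine ⟨fun x hx y => ?_⟩
    have h1 := (Subgroup.mem_normalizer_iff.mp (hYN y.2) (x : G)).mp ⟨x, hx, rfl⟩
    obtain ⟨z, hz, hzeq⟩ := h1
    rwa [show y * x * y⁻¹ = z from Subtype.ext hzeq.symm]
  haveI : (S : Subgroup ↥Y).Characteristic := S.characteristic_of_normal inferInstance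
  haveI : S'.Normal := Thompson.map_subtype_normal_of_characteristic Y _
  have hS'bot : S' = ⊥ := by
    rw [eq_bot_iff, ← hO]
    exact Thompson.le_pCore inferInstance (S.isPGroup'.map _)
  have hYQ : Y = Q := by rw [← hsup, hS'bot, sup_bot_eq]
  have hbot : Cfsg.pCore p (G ⧸ Q) = ⊥ := by
    have h : Y.map (QuotientGroup.mk' Q) = Cfsg.pCore p (G ⧸ Q) := Thompson.map_mk'_pPrimePCore
    rw [← h, hYQ, QuotientGroup.map_mk'_self]
  by_contra hne
  haveI : Nontrivial (G ⧸ Q) :=
    QuotientGroup.nontrivial_iff.mpr hne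
  rcases Thompson.pCore_ne_bot_or_pPrimeCore_ne_bot (Thompson.isPSolvable_quotient Q hsolv) with
    h | h
  · exact h hbot
  · exact h Thompson.pPrimeCore_quotient_pPrimeCore

/-- The derived series of a Sylow subgroup vanishes at the number of `p`-singular degrees
plus one. -/
theorem derived_eq_bot (p : ℕ) [hp : Fact p.Prime] :
    ∀ (j : ℕ) {G : Type u} [Group G] [Finite G], Nat.card G ≤ j → Cfsg.IsPSolvable p G →
      ∀ P : Sylow p G, derivedSeries ↥(P : Subgroup G) (Nat.card (Sing p G) + 1) = ⊥ := by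
  intro j
  induction j with
  | zero => intro G _ _ h; exact absurd h (not_le_of_gt Nat.card_pos)
  | succ j ih =>
    intro G _ _ hj hsolv P
    classical
    have := Fintype.ofFinite G
    set n := Nat.card (Sing p G) with hn
    have key : ∀ N : Subgroup G, ∀ [N.Normal], N ≠ ⊥ →
        derivedSeries ↥(P : Subgroup G) (Nat.card (Sing p (G ⧸ N)) + 1) ≤
          N.subgroupOf (P : Subgroup G) := by
      intro N _ hN0
      refine derived_le N P fun Q => ih ?_ (Thompson.isPSolvable_quotient N hsolv) Q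
      have h1 : 1 < Nat.card N := (Subgroup.one_lt_card_iff_ne_bot N).mpr hN0
      have h2 := Subgroup.card_eq_card_quotient_mul_card_subgroup N
      have h4 : 0 < Nat.card (G ⧸ N) := Nat.card_pos
      nlinarith
    -- an abelian normal subgroup outside the kernel of a singular character
    have habel : ∀ A : Subgroup G, ∀ [A.Normal], (∀ a ∈ A, ∀ b ∈ A, a * b = b * a) →
        ∀ χ : Sing p G, ∀ a ∈ A, (χ.1 : G → ℂ) a ≠ (χ.1 : G → ℂ) 1 →
        derivedSeries ↥(P : Subgroup G) (n + 1) = ⊥ := by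
      intro A _ hA χ a ha hne
      have hA0 : A ≠ ⊥ := fun h => hne (by rw [h, Subgroup.mem_bot] at ha; rw [ha])
      exact derived_succ_eq_bot hA ((derivedSeries_antitone _
        (card_quotient_lt A χ ha hne)).trans (key A hA0))
    by_cases hK : Cfsg.pPrimeCore p G = ⊥
    swap
    · refine le_bot_iff.mp (((derivedSeries_antitone _ (Nat.add_le_add_right
        (card_quotient_le (Cfsg.pPrimeCore p G)) 1)).trans
          (key (Cfsg.pPrimeCore p G) hK)).trans ?_)
      rw [le_bot_iff, Subgroup.subgroupOf_eq_bot, disjoint_iff, inf_comm]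
      exact Thompson.inf_eq_bot_of_isPGroup_of_coprime P.isPGroup'
        Thompson.card_pPrimeCore_coprime
    set X := Cfsg.pCore p G with hX
    have hXp : IsPGroup p X := Thompson.isPGroup_pCore
    have := Fintype.ofFinite X
    by_cases hXab : ∀ x y : X, x * y = y * x
    swap
    · -- `X` is not abelian
      push Not at hXab
      obtain ⟨x, y, hxy⟩ := hXab
      have hcomm : commutator X ≠ ⊥ := by
        intro hb
        refine hxy (commutatorElement_eq_one_iff_mul_comm.mp ?_)
        have : ⁅x, y⁆ ∈ commutator X := Subgroup.commutator_mem_commutator (Subgroup.mem_top x)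
          (Subgroup.mem_top y)
        rwa [hb, Subgroup.mem_bot] at this
      obtain ⟨a, ha, ha1⟩ := (Subgroup.ne_bot_iff_exists_ne_one.mp
        (PGroup.inf_center_ne_bot hXp hcomm) :
          ∃ a : ↥(commutator X ⊓ Subgroup.center X), a ≠ 1) |>
            fun ⟨a, h⟩ => (⟨(a : X), a.2, fun h1 => h (Subtype.ext h1)⟩ :
              ∃ a : X, a ∈ commutator X ⊓ Subgroup.center X ∧ a ≠ 1)
      obtain ⟨lam, hlam⟩ : ∃ lam : Cfsg.IrrCharacter X, (lam : X → ℂ) a ≠ (lam : X → ℂ) 1 := by
        by_contra hc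
        push Not at hc
        exact ha1 (CharDeep.Ext.eq_one_of_forall_irr hc)
      obtain ⟨d, hd0, hd⟩ := CharCore.IsIrrCharacter.exists_degree lam.2
      have hd1 : d ≠ 1 := by
        rintro rfl
        obtain ⟨f, hf⟩ := CharCore.IsCharacter.exists_hom_of_degree_one
          (CharCore.irr_isCharacter lam) (by rw [hd, Nat.cast_one])
        refine hlam ?_
        rw [hf]
        simp [Abelianization.commutator_subset_ker f ha.1 |> MonoidHom.mem_ker.mp]
      have hpd : p ∣ d := by
        obtain ⟨k, hk⟩ := IsPGroup.iff_card.mp hXp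
        obtain ⟨d', -, hd', h⟩ := CharClifford.exists_degree_dvd_card lam.2
        rw [hd] at h
        obtain rfl : d = d' := by exact_mod_cast h
        rw [hk] at hd'
        obtain ⟨i, -, hi⟩ := (Nat.dvd_prime_pow hp.out).mp hd'
        rw [hi]
        refine dvd_pow_self p fun h0 => hd1 ?_
        rw [hi, h0, pow_zero]
      obtain ⟨χ, hχ⟩ := CharCore.exists_over X lam
      have hpχ : p ∣ Cfsg.charDegree (χ : G → ℂ) :=
        hpd.trans (CharDeep.Ext.dvd_degree_of_constituent X lam.2 χ.2 hd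
          (CharDeep.Deg.apply_one χ) hχ)
      haveI : ((commutator X ⊓ Subgroup.center X).map X.subtype).Normal :=
        Thompson.map_subtype_normal_of_characteristic X _
      refine habel ((commutator X ⊓ Subgroup.center X).map X.subtype) ?_ ⟨χ, hpχ⟩ (a : G)
        ⟨a, ha, rfl⟩ fun h => hlam ?_
      · rintro _ ⟨b, -, rfl⟩ _ ⟨c, hc, rfl⟩
        exact congrArg Subtype.val (Subgroup.mem_center_iff.mp hc.2 b)
      · exact apply_eq_of_constituent
          (CharCore.isCharacter_restrict (CharCore.irr_isCharacter χ) X) lam hχ (by simpa using h)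
    -- `X` is abelian
    have hXab' : ∀ a ∈ X, ∀ b ∈ X, a * b = b * a := fun a ha b hb =>
      congrArg Subtype.val (hXab ⟨a, ha⟩ ⟨b, hb⟩)
    by_cases h1 : ∃ χ : Sing p G, ∃ a ∈ X, (χ.1 : G → ℂ) a ≠ (χ.1 : G → ℂ) 1
    · obtain ⟨χ, a, ha, hne⟩ := h1
      exact habel X hXab' χ a ha hne
    set π := QuotientGroup.mk' X with hπ
    set Q := (Cfsg.pPrimeCore p (G ⧸ X)).comap π with hQ
    have hQP : Q.subgroupOf (P : Subgroup G) ≤ X.subgroupOf (P : Subgroup G) := by
      intro x hx
      have h3 : π (x : G) ∈ (P : Subgroup G).map π ⊓ Cfsg.pPrimeCore p (G ⧸ X) :=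
        ⟨Subgroup.mem_map_of_mem π x.2, hx⟩
      rw [Thompson.inf_eq_bot_of_isPGroup_of_coprime (P.isPGroup'.map π)
        Thompson.card_pPrimeCore_coprime, Subgroup.mem_bot] at h3
      exact (QuotientGroup.eq_one_iff (x : G)).mp h3
    by_cases h2 : ∃ χ : Sing p G, ∃ a ∈ Q, (χ.1 : G → ℂ) a ≠ (χ.1 : G → ℂ) 1
    · obtain ⟨χ, a, ha, hne⟩ := h2
      have hQ0 : Q ≠ ⊥ := fun h => hne (by rw [h, Subgroup.mem_bot] at ha; rw [ha])
      exact derived_succ_eq_bot hXab' (((derivedSeries_antitone _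
        (card_quotient_lt Q χ ha hne)).trans (key Q hQ0)).trans hQP)
    push Not at h2
    have htop : Cfsg.pPrimeCore p (G ⧸ X) = ⊤ := by
      refine pPrimeCore_eq_top_of_trivial (Thompson.isPSolvable_quotient X hsolv)
        Thompson.pCore_quotient_pCore fun θ hθ g hg => ?_
      obtain ⟨g, rfl⟩ := QuotientGroup.mk'_surjective X g
      have h := h2 (inflate X ⟨θ, hθ⟩) g hg
      show (θ : G ⧸ X → ℂ) (QuotientGroup.mk' X g) = (θ : G ⧸ X → ℂ) 1
      rw [← map_one (QuotientGroup.mk' X)]
      exact h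
    have h0 : derivedSeries ↥(P : Subgroup G) 0 ≤ X.subgroupOf (P : Subgroup G) := by
      intro x _
      refine hQP ?_
      show π (x : G) ∈ Cfsg.pPrimeCore p (G ⧸ X)
      rw [htop]
      exact Subgroup.mem_top _
    exact le_bot_iff.mp ((derivedSeries_antitone _ (Nat.le_add_left 1 n)).trans
      (derived_succ_eq_bot hXab' h0).le)

end Cfsg.Agent.Fus2.SingLen
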