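import Cfsg.Agent.Fus2.SpecFrobData
import Cfsg.Agent.Lib.CharCore.Burnside

/-!
Frobenius groups `(ZMod p)⁴ ⋊ K`, for `K` a listed fixed-point-free group of matrices, and their
element orders.
-/

set_option autoImplicit false
set_option synthInstance.maxSize 1000

namespace Cfsg.Agent.Fus2.SpecFrob

open Matrix

/-- A row. -/
abbrev Row := ℕ × ℕ × ℕ × ℕ

/-- A 4×4 matrix of residues. -/
abbrev M4 := Row × Row × Row × Row

/-- A matrix from the function of its entries. -/
def ofFun (f : ℕ → ℕ → ℕ) : M4 :=
  let r := fun i => (f i 0, f i 1, f i 2, f i 3)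
  (r 0, r 1, r 2, r 3)

/-- An entry of a row. -/
def rowGet (r : Row) : ℕ → ℕ
  | 0 => r.1
  | 1 => r.2.1
  | 2 => r.2.2.1
  | _ => r.2.2.2

/-- An entry of a matrix. -/
def get (m : M4) : ℕ → ℕ → ℕ
  | 0 => rowGet m.1
  | 1 => rowGet m.2.1
  | 2 => rowGet m.2.2.1
  | _ => rowGet m.2.2.2

theorem get_ofFun (f : ℕ → ℕ → ℕ) (i j : Fin 4) : get (ofFun f) i j = f i j := by
  fin_cases i <;> fin_cases j <;> rfl

/-- Product modulo `p`. -/
def mulC (p : ℕ) (a b : M4) : M4 :=
  ofFun fun i j =>
    (get a i 0 * get b 0 j + get a i 1 * get b 1 j + get a i 2 * get b 2 j + get a i 3 * get b 3 j) % p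

/-- Sum modulo `p`. -/
def addC (p : ℕ) (a b : M4) : M4 := ofFun fun i j => (get a i j + get b i j) % p

/-- The unit matrix. -/
def oneC : M4 := ((1, 0, 0, 0), (0, 1, 0, 0), (0, 0, 1, 0), (0, 0, 0, 1))

/-- The zero matrix. -/
def zeroC : M4 := ((0, 0, 0, 0), (0, 0, 0, 0), (0, 0, 0, 0), (0, 0, 0, 0))

/-- Powers. -/
def powC (p : ℕ) (a : M4) : ℕ → M4
  | 0 => oneC
  | n + 1 => mulC p (powC p a n) a

/-- Geometric sums. -/
def sumC (p : ℕ) (a : M4) : ℕ → M4
  | 0 => zeroC
  | n + 1 => addC p (sumC p a n) (powC p a n)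

/-- The matrix of a code. -/
def toMat (p : ℕ) (m : M4) : Matrix (Fin 4) (Fin 4) (ZMod p) :=
  Matrix.of fun i j => (get m i j : ZMod p)

variable {p : ℕ}

theorem toMat_mul (a b : M4) : toMat p (mulC p a b) = toMat p a * toMat p b := by
  ext i j
  simp [toMat, mulC, get_ofFun, Matrix.mul_apply, Fin.sum_univ_four, ZMod.natCast_mod]

theorem toMat_add (a b : M4) : toMat p (addC p a b) = toMat p a + toMat p b := by
  ext i j
  simp [toMat, addC, get_ofFun, ZMod.natCast_mod]

theorem toMat_one : toMat p oneC = 1 := by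
  ext i j
  fin_cases i <;> fin_cases j <;> simp [toMat, get, rowGet, oneC]

theorem toMat_zero : toMat p zeroC = 0 := by
  ext i j
  fin_cases i <;> fin_cases j <;> simp [toMat, get, rowGet, zeroC]

theorem toMat_pow (a : M4) : ∀ n, toMat p (powC p a n) = toMat p a ^ n
  | 0 => by rw [powC, toMat_one, pow_zero]
  | n + 1 => by rw [powC, toMat_mul, toMat_pow a n, pow_succ]

theorem toMat_sum (a : M4) : ∀ n, toMat p (sumC p a n) = ∑ i ∈ Finset.range n, toMat p a ^ i
  | 0 => by rw [sumC, toMat_zero, Finset.sum_range_zero]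
  | n + 1 => by rw [sumC, toMat_add, toMat_sum a n, toMat_pow, Finset.sum_range_succ]

/-- All entries are reduced modulo `p`. -/
def reduced (p : ℕ) (m : M4) : Bool :=
  (List.range 4).all fun i => (List.range 4).all fun j => decide (get m i j < p)

theorem ofFun_get (m : M4) : ofFun (get m) = m := rfl

theorem toMat_inj {a b : M4} (ha : reduced p a = true) (hb : reduced p b = true)
    (h : toMat p a = toMat p b) : a = b := by
  simp only [reduced, List.all_eq_true, List.mem_range, decide_eq_true_eq] at ha hb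
  have key : ∀ i j : Fin 4, get a i j = get b i j := fun i j => by
    have := congrFun (congrFun h i) j
    simp only [toMat, Matrix.of_apply] at this
    rwa [ZMod.natCast_eq_natCast_iff', Nat.mod_eq_of_lt (ha i i.2 j j.2),
      Nat.mod_eq_of_lt (hb i i.2 j j.2)] at this
  have k := fun i j => key i j
  rw [← ofFun_get a, ← ofFun_get b]
  simp only [ofFun]
  rw [show get a 0 0 = _ from k 0 0, show get a 0 1 = _ from k 0 1, show get a 0 2 = _ from k 0 2,
    show get a 0 3 = _ from k 0 3, show get a 1 0 = _ from k 1 0, show get a 1 1 = _ from k 1 1,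
    show get a 1 2 = _ from k 1 2, show get a 1 3 = _ from k 1 3, show get a 2 0 = _ from k 2 0,
    show get a 2 1 = _ from k 2 1, show get a 2 2 = _ from k 2 2, show get a 2 3 = _ from k 2 3,
    show get a 3 0 = _ from k 3 0, show get a 3 1 = _ from k 3 1, show get a 3 2 = _ from k 3 2,
    show get a 3 3 = _ from k 3 3]
  rfl

/-- What is checked of a list of matrices: it is a reduced group without repetitions, all
nonidentity members have an exponent in `L` with vanishing geometric sum, and every member of `L`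
is an order. -/
def check (p : ℕ) (es : List M4) (L : List ℕ) : Bool :=
  es.contains oneC && (es.all fun a => es.all fun b => es.contains (mulC p a b)) &&
  (es.all fun a => es.any fun b => mulC p a b == oneC && mulC p b a == oneC) &&
  es.all (reduced p) && decide es.Nodup &&
  (es.all fun a => a == oneC || L.any fun n => powC p a n == oneC && sumC p a n == zeroC) &&
  (L.all fun n => decide (0 < n) && es.any fun a => powC p a n == oneC &&
    (List.range n).all fun k => k == 0 || powC p a k != oneC)

/-- The units of matrices. -/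
abbrev GL4 (p : ℕ) := (Matrix (Fin 4) (Fin 4) (ZMod p))ˣ

/-- A checked list gives a Frobenius group whose element orders are the divisors of `p` and of
the members of `L`. -/
theorem exists_group [hp : Fact p.Prime] {es : List M4} {L : List ℕ} (h : check p es L = true)
    {a b q r : ℕ} (hq : q.Prime) (hr : r.Prime) (hlen : es.length = q ^ a * r ^ b) :
    ∃ (G : Type) (_ : Group G) (_ : Fintype G), Group.IsSolvable G ∧
      Set.range (orderOf : G → ℕ) = {d | ∃ n ∈ p :: L, d ∣ n} := by
  classical
  simp only [check, Bool.and_eq_true, List.all_eq_true, List.any_eq_true, decide_eq_true_eq,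
    Bool.or_eq_true, beq_iff_eq, List.contains_iff_mem, bne_iff_ne] at h
  obtain ⟨⟨⟨⟨⟨⟨hone, hmul⟩, hinv⟩, hred⟩, hnd⟩, hgood⟩, hwit⟩ := h
  let K : Subgroup (GL4 p) :=
    { carrier := {u | ∃ m ∈ es, toMat p m = (u : Matrix (Fin 4) (Fin 4) (ZMod p))}
      one_mem' := ⟨oneC, hone, toMat_one⟩
      mul_mem' := fun {u v} ⟨m, hm, hu⟩ ⟨m', hm', hv⟩ =>
        ⟨mulC p m m', hmul m hm m' hm', by rw [toMat_mul, hu, hv, Units.val_mul]⟩
      inv_mem' := fun {u} ⟨m, hm, hu⟩ => by
        obtain ⟨m', hm', h1, h2⟩ := hinv m hm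
        refine ⟨m', hm', (Units.inv_eq_of_mul_eq_one_right ?_).symm⟩
        rw [← hu, ← toMat_mul, h1, toMat_one] }
  have hK : ∀ m ∈ es, ∃ u : K, toMat p m = ((u : GL4 p) : Matrix (Fin 4) (Fin 4) (ZMod p)) := by
    intro m hm
    obtain ⟨m', -, h1, h2⟩ := hinv m hm
    exact ⟨⟨⟨toMat p m, toMat p m', by rw [← toMat_mul, h1, toMat_one],
      by rw [← toMat_mul, h2, toMat_one]⟩, m, hm, rfl⟩, rfl⟩
  have hcard : Nat.card K = es.length := by
    rw [← Nat.card_fin es.length]
    choose f hf using fun i : Fin es.length => hK _ (es.get_mem i)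
    refine (Nat.card_congr (Equiv.ofBijective f ⟨fun i j hij => ?_, fun u => ?_⟩)).symm
    · exact hnd.injective_get (toMat_inj (hred _ (es.get_mem i)) (hred _ (es.get_mem j))
        (by rw [hf i, hf j, hij]))
    · obtain ⟨m, hm, hu⟩ := u.2
      obtain ⟨i, rfl⟩ := List.get_of_mem hm
      exact ⟨i, Subtype.ext (Units.ext (by rw [← hf i, hu]))⟩
  haveI : Group.IsSolvable K :=
    CharCore.isSolvable_of_card_eq_prime_pow_mul hq hr _ K a b hcard hlen
  let V := Fin 4 → ZMod p
  let act : K →* MulAut (Multiplicative V) :=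
    { toFun := fun g =>
        { toFun := fun v => Multiplicative.ofAdd
            (((g : GL4 p) : Matrix (Fin 4) (Fin 4) (ZMod p)) *ᵥ v.toAdd)
          invFun := fun v => Multiplicative.ofAdd
            ((((g : GL4 p)⁻¹ : GL4 p) : Matrix (Fin 4) (Fin 4) (ZMod p)) *ᵥ v.toAdd)
          left_inv := fun v => by simp [Matrix.mulVec_mulVec]
          right_inv := fun v => by simp [Matrix.mulVec_mulVec]
          map_mul' := fun v w => congrArg Multiplicative.ofAdd (Matrix.mulVec_add _ v.toAdd w.toAdd) }
      map_one' := MulEquiv.ext fun v => by simp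
      map_mul' := fun g g' => MulEquiv.ext fun v => by simp [Matrix.mulVec_mulVec] }
  let G := SemidirectProduct (Multiplicative V) K act
  haveI : Finite G := Finite.of_injective (fun x : G => (x.left, x.right)) fun x y e =>
    SemidirectProduct.ext (congrArg Prod.fst e) (congrArg Prod.snd e)
  have hpow : ∀ (v : V) (g : K) (n : ℕ), (⟨Multiplicative.ofAdd v, g⟩ : G) ^ n =
      ⟨Multiplicative.ofAdd
        ((∑ i ∈ Finset.range n, ((g : GL4 p) : Matrix (Fin 4) (Fin 4) (ZMod p)) ^ i) *ᵥ v),
        g ^ n⟩ := by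
    intro v g n
    induction n with
    | zero => simp [SemidirectProduct.one_left, SemidirectProduct.ext_iff]
    | succ n ih =>
      rw [pow_succ, ih]
      refine SemidirectProduct.ext ?_ (pow_succ g n).symm
      rw [SemidirectProduct.mul_left]
      show Multiplicative.ofAdd (_ + (((g ^ n : K) : GL4 p) : Matrix (Fin 4) (Fin 4) (ZMod p)) *ᵥ v) =
        Multiplicative.ofAdd _
      rw [SubgroupClass.coe_pow, Units.val_pow_eq_pow_val, Finset.sum_range_succ, Matrix.add_mulVec]
      rfl
  refine ⟨G, inferInstance, Fintype.ofFinite G, ?_, ?_⟩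
  · haveI : Group.IsSolvable (Multiplicative V) :=
      Group.isSolvable_of_comm fun x y => mul_comm x y
    refine Group.isSolvable_of_ker_le_range (SemidirectProduct.inl : Multiplicative V →* G)
      SemidirectProduct.rightHom ?_
    rw [SemidirectProduct.range_inl_eq_ker_rightHom]
  · ext d
    constructor
    · rintro ⟨⟨v, g⟩, rfl⟩
      obtain ⟨v, rfl⟩ := Multiplicative.ofAdd.surjective v
      obtain ⟨m, hm, hg⟩ := g.2
      rcases hgood m hm with rfl | ⟨n, hn, h1, h2⟩
      · have : g = 1 := Subtype.ext (Units.ext (by rw [← hg, toMat_one]; rfl))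
        subst this
        refine ⟨p, List.mem_cons_self, orderOf_dvd_of_pow_eq_one ?_⟩
        rw [hpow, one_pow]
        refine SemidirectProduct.ext ?_ rfl
        simp [SemidirectProduct.one_left]
      · refine ⟨n, List.mem_cons_of_mem _ hn, orderOf_dvd_of_pow_eq_one ?_⟩
        have hgn : g ^ n = 1 := Subtype.ext (Units.ext (by
          rw [SubgroupClass.coe_pow, Units.val_pow_eq_pow_val, ← hg, ← toMat_pow, h1, toMat_one]
          rfl))
        rw [hpow, hgn, ← hg, ← toMat_sum, h2, toMat_zero, Matrix.zero_mulVec]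
        rfl
    · rintro ⟨n, hn, hd⟩
      suffices ∃ x : G, orderOf x = n ∧ n ≠ 0 by
        obtain ⟨x, hx, hn0⟩ := this
        obtain ⟨c, hc⟩ := hd
        refine ⟨x ^ c, ?_⟩
        have hc0 : c ≠ 0 := fun h => hn0 (by rw [hc, h, mul_zero])
        rw [orderOf_pow' _ hc0, hx, hc, Nat.gcd_mul_left_left,
          Nat.mul_div_cancel _ (Nat.pos_of_ne_zero hc0)]
      rcases List.mem_cons.mp hn with rfl | hn
      · refine ⟨SemidirectProduct.inl (Multiplicative.ofAdd (fun _ => (1 : ZMod n) : V)), ?_,
          hp.out.ne_zero⟩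
        rw [orderOf_injective _ SemidirectProduct.inl_injective, orderOf_ofAdd_eq_addOrderOf]
        refine addOrderOf_eq_prime ?_ fun e => one_ne_zero (congrFun e 0)
        funext i
        simp
      · obtain ⟨hn0, m, hm, h1, h2⟩ := hwit n hn
        obtain ⟨u, hu⟩ := hK m hm
        refine ⟨SemidirectProduct.inr u, ?_, hn0.ne'⟩
        rw [orderOf_injective _ SemidirectProduct.inr_injective, ← Subgroup.orderOf_coe,
          ← orderOf_units, ← hu, orderOf_eq_iff hn0]
        refine ⟨by rw [← toMat_pow, h1, toMat_one], fun k hk hk0 e => ?_⟩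
        rcases h2 k (List.mem_range.mpr hk) with h | h
        · omega
        · refine h (toMat_inj ?_ (hred _ hone) (by rw [toMat_pow, toMat_one, e]))
          have hmem : ∀ j, powC p m j ∈ es := fun j => by
            induction j with
            | zero => exact hone
            | succ j ih => exact hmul _ ih _ hm
          exact hred _ (hmem k)

theorem check13 : check 13 elems13 [6, 8] = true := by decide +kernel

theorem check7 : check 7 elems7 [8, 12] = true := by decide +kernel

end Cfsg.Agent.Fus2.SpecFrob
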