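import Mathlib

/-! Element lists for the Frobenius complements `2.S₄` over `ZMod 13` and `C₃ ⋊ C₈` over `ZMod 7`. -/

namespace Cfsg.Agent.Fus2.SpecFrob

/-- The complement over `ZMod 13`. -/
def elems13 : List ((ℕ × ℕ × ℕ × ℕ) × (ℕ × ℕ × ℕ × ℕ) × (ℕ × ℕ × ℕ × ℕ) × (ℕ × ℕ × ℕ × ℕ)) := [
  ((1, 0, 0, 0), (0, 1, 0, 0), (0, 0, 1, 0), (0, 0, 0, 1)),
  ((3, 0, 3, 0), (0, 3, 0, 3), (2, 0, 11, 0), (0, 2, 0, 11)),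
  ((0, 6, 0, 0), (3, 0, 0, 0), (0, 0, 0, 9), (0, 0, 11, 0)),
  ((2, 0, 3, 0), (0, 2, 0, 3), (2, 0, 10, 0), (0, 2, 0, 10)),
  ((0, 5, 0, 1), (9, 0, 7, 0), (0, 12, 0, 8), (6, 0, 4, 0)),
  ((0, 5, 0, 5), (9, 0, 9, 0), (0, 5, 0, 8), (9, 0, 4, 0)),
  ((5, 0, 0, 0), (0, 5, 0, 0), (0, 0, 8, 0), (0, 0, 0, 8)),
  ((12, 0, 0, 0), (0, 12, 0, 0), (0, 0, 12, 0), (0, 0, 0, 12)),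
  ((0, 12, 0, 1), (6, 0, 7, 0), (0, 12, 0, 12), (6, 0, 6, 0)),
  ((0, 4, 0, 0), (2, 0, 0, 0), (0, 0, 0, 7), (0, 0, 10, 0)),
  ((2, 0, 11, 0), (0, 2, 0, 11), (10, 0, 10, 0), (0, 10, 0, 10)),
  ((0, 12, 0, 5), (6, 0, 9, 0), (0, 5, 0, 12), (9, 0, 6, 0)),
  ((2, 0, 2, 0), (0, 2, 0, 2), (3, 0, 10, 0), (0, 3, 0, 10)),
  ((10, 0, 10, 0), (0, 10, 0, 10), (11, 0, 2, 0), (0, 11, 0, 2)),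
  ((0, 7, 0, 0), (10, 0, 0, 0), (0, 0, 0, 4), (0, 0, 2, 0)),
  ((0, 12, 0, 8), (6, 0, 4, 0), (0, 8, 0, 12), (4, 0, 6, 0)),
  ((10, 0, 11, 0), (0, 10, 0, 11), (10, 0, 2, 0), (0, 10, 0, 2)),
  ((0, 12, 0, 12), (6, 0, 6, 0), (0, 1, 0, 12), (7, 0, 6, 0)),
  ((2, 0, 10, 0), (0, 2, 0, 10), (11, 0, 10, 0), (0, 11, 0, 10)),
  ((10, 0, 3, 0), (0, 10, 0, 3), (2, 0, 2, 0), (0, 2, 0, 2)),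
  ((10, 0, 2, 0), (0, 10, 0, 2), (3, 0, 2, 0), (0, 3, 0, 2)),
  ((11, 0, 10, 0), (0, 11, 0, 10), (11, 0, 3, 0), (0, 11, 0, 3)),
  ((0, 8, 0, 12), (4, 0, 6, 0), (0, 1, 0, 5), (7, 0, 9, 0)),
  ((0, 8, 0, 8), (4, 0, 4, 0), (0, 8, 0, 5), (4, 0, 9, 0)),
  ((8, 0, 0, 0), (0, 8, 0, 0), (0, 0, 5, 0), (0, 0, 0, 5)),
  ((0, 0, 0, 7), (0, 0, 10, 0), (0, 9, 0, 0), (11, 0, 0, 0)),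
  ((0, 0, 8, 0), (0, 0, 0, 8), (8, 0, 0, 0), (0, 8, 0, 0)),
  ((0, 0, 12, 0), (0, 0, 0, 12), (1, 0, 0, 0), (0, 1, 0, 0)),
  ((0, 8, 0, 1), (4, 0, 7, 0), (0, 12, 0, 5), (6, 0, 9, 0)),
  ((0, 8, 0, 5), (4, 0, 9, 0), (0, 5, 0, 5), (9, 0, 9, 0)),
  ((0, 1, 0, 12), (7, 0, 6, 0), (0, 1, 0, 1), (7, 0, 7, 0)),
  ((0, 9, 0, 0), (11, 0, 0, 0), (0, 0, 0, 6), (0, 0, 3, 0)),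
  ((11, 0, 2, 0), (0, 11, 0, 2), (3, 0, 3, 0), (0, 3, 0, 3)),
  ((0, 1, 0, 8), (7, 0, 4, 0), (0, 8, 0, 1), (4, 0, 7, 0)),
  ((11, 0, 11, 0), (0, 11, 0, 11), (10, 0, 3, 0), (0, 10, 0, 3)),
  ((3, 0, 10, 0), (0, 3, 0, 10), (11, 0, 11, 0), (0, 11, 0, 11)),
  ((0, 0, 0, 4), (0, 0, 2, 0), (0, 6, 0, 0), (3, 0, 0, 0)),
  ((0, 0, 0, 9), (0, 0, 11, 0), (0, 7, 0, 0), (10, 0, 0, 0)),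
  ((11, 0, 3, 0), (0, 11, 0, 3), (2, 0, 3, 0), (0, 2, 0, 3)),
  ((0, 1, 0, 5), (7, 0, 9, 0), (0, 5, 0, 1), (9, 0, 7, 0)),
  ((3, 0, 2, 0), (0, 3, 0, 2), (3, 0, 11, 0), (0, 3, 0, 11)),
  ((0, 1, 0, 1), (7, 0, 7, 0), (0, 12, 0, 1), (6, 0, 7, 0)),
  ((3, 0, 11, 0), (0, 3, 0, 11), (10, 0, 11, 0), (0, 10, 0, 11)),
  ((0, 5, 0, 12), (9, 0, 6, 0), (0, 1, 0, 8), (7, 0, 4, 0)),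
  ((0, 0, 5, 0), (0, 0, 0, 5), (5, 0, 0, 0), (0, 5, 0, 0)),
  ((0, 5, 0, 8), (9, 0, 4, 0), (0, 8, 0, 8), (4, 0, 4, 0)),
  ((0, 0, 1, 0), (0, 0, 0, 1), (12, 0, 0, 0), (0, 12, 0, 0)),
  ((0, 0, 0, 6), (0, 0, 3, 0), (0, 4, 0, 0), (2, 0, 0, 0))]

/-- The complement over `ZMod 7`. -/
def elems7 : List ((ℕ × ℕ × ℕ × ℕ) × (ℕ × ℕ × ℕ × ℕ) × (ℕ × ℕ × ℕ × ℕ) × (ℕ × ℕ × ℕ × ℕ)) := [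
  ((1, 0, 0, 0), (0, 1, 0, 0), (0, 0, 1, 0), (0, 0, 0, 1)),
  ((2, 0, 0, 0), (0, 2, 0, 0), (0, 0, 4, 0), (0, 0, 0, 4)),
  ((0, 0, 0, 6), (0, 0, 1, 0), (1, 0, 0, 0), (0, 1, 0, 0)),
  ((4, 0, 0, 0), (0, 4, 0, 0), (0, 0, 2, 0), (0, 0, 0, 2)),
  ((0, 0, 0, 5), (0, 0, 2, 0), (4, 0, 0, 0), (0, 4, 0, 0)),
  ((0, 0, 0, 3), (0, 0, 4, 0), (2, 0, 0, 0), (0, 2, 0, 0)),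
  ((0, 6, 0, 0), (1, 0, 0, 0), (0, 0, 0, 6), (0, 0, 1, 0)),
  ((0, 5, 0, 0), (2, 0, 0, 0), (0, 0, 0, 3), (0, 0, 4, 0)),
  ((0, 3, 0, 0), (4, 0, 0, 0), (0, 0, 0, 5), (0, 0, 2, 0)),
  ((0, 0, 6, 0), (0, 0, 0, 6), (0, 6, 0, 0), (1, 0, 0, 0)),
  ((0, 0, 5, 0), (0, 0, 0, 5), (0, 3, 0, 0), (4, 0, 0, 0)),
  ((0, 0, 3, 0), (0, 0, 0, 3), (0, 5, 0, 0), (2, 0, 0, 0)),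
  ((6, 0, 0, 0), (0, 6, 0, 0), (0, 0, 6, 0), (0, 0, 0, 6)),
  ((5, 0, 0, 0), (0, 5, 0, 0), (0, 0, 3, 0), (0, 0, 0, 3)),
  ((3, 0, 0, 0), (0, 3, 0, 0), (0, 0, 5, 0), (0, 0, 0, 5)),
  ((0, 0, 0, 1), (0, 0, 6, 0), (6, 0, 0, 0), (0, 6, 0, 0)),
  ((0, 0, 0, 2), (0, 0, 5, 0), (3, 0, 0, 0), (0, 3, 0, 0)),
  ((0, 0, 0, 4), (0, 0, 3, 0), (5, 0, 0, 0), (0, 5, 0, 0)),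
  ((0, 1, 0, 0), (6, 0, 0, 0), (0, 0, 0, 1), (0, 0, 6, 0)),
  ((0, 2, 0, 0), (5, 0, 0, 0), (0, 0, 0, 4), (0, 0, 3, 0)),
  ((0, 4, 0, 0), (3, 0, 0, 0), (0, 0, 0, 2), (0, 0, 5, 0)),
  ((0, 0, 1, 0), (0, 0, 0, 1), (0, 1, 0, 0), (6, 0, 0, 0)),
  ((0, 0, 2, 0), (0, 0, 0, 2), (0, 4, 0, 0), (3, 0, 0, 0)),
  ((0, 0, 4, 0), (0, 0, 0, 4), (0, 2, 0, 0), (5, 0, 0, 0))]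

end Cfsg.Agent.Fus2.SpecFrob
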