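import Cfsg.Agent.ClassTech.UnitaryKlein

/-!
The element orders of `PSL₃(3)` and `PSU₃(3)`.
-/

set_option autoImplicit false
set_option maxRecDepth 100000
set_option synthInstance.maxSize 2000

namespace Cfsg.Agent.Fus2.SpecLie

open Matrix Cfsg Cfsg.Agent.ClassTech.UnitaryKlein Cfsg.Agent.ClassTech.UnitaryCert

/-- The element orders of a monoid are the divisors of `L` when every element has an exponent
in `L` and every member of `L` is an order. -/
theorem range_eq_of {M : Type*} [Monoid M] {L : List ℕ} (h1 : ∀ x : M, ∃ n ∈ L, x ^ n = 1)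
    (h2 : ∀ n ∈ L, ∃ x : M, orderOf x = n ∧ n ≠ 0) :
    Set.range (orderOf : M → ℕ) = {d | ∃ n ∈ L, d ∣ n} := by
  ext d
  constructor
  · rintro ⟨x, rfl⟩
    obtain ⟨n, hn, hx⟩ := h1 x
    exact ⟨n, hn, orderOf_dvd_of_pow_eq_one hx⟩
  · rintro ⟨n, hn, c, rfl⟩
    obtain ⟨x, hx, hn0⟩ := h2 _ hn
    have hc0 : c ≠ 0 := fun h => hn0 (by rw [h, mul_zero])
    refine ⟨x ^ c, ?_⟩
    rw [orderOf_pow' _ hc0, hx, Nat.gcd_mul_left_left,
      Nat.mul_div_cancel _ (Nat.pos_of_ne_zero hc0)]

/-- The image of an element in a central quotient keeps its order when no proper power is central. -/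
theorem orderOf_mk {M : Type*} [Group M] {x : M} {n : ℕ} (hn : 0 < n) (hx : x ^ n = 1)
    (h : ∀ k, 0 < k → k < n → ∃ y, y * x ^ k ≠ x ^ k * y) :
    orderOf (QuotientGroup.mk' (Subgroup.center M) x) = n := by
  rw [orderOf_eq_iff hn]
  refine ⟨by rw [← map_pow, hx, map_one], fun k hk hk0 e => ?_⟩
  obtain ⟨y, hy⟩ := h k hk0 hk
  rw [← map_pow, QuotientGroup.mk'_apply, QuotientGroup.eq_one_iff] at e
  exact hy (Subgroup.mem_center_iff.mp e y)

/-! ### Powers of a root of a cubic -/

/-- Coefficients of `Xⁿ` modulo `X³ = aX² + bX + 1`. -/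
def coef {C : Type*} (add mul : C → C → C) (zero one a b : C) : ℕ → C × C × C
  | 0 => (zero, zero, one)
  | n + 1 =>
    let t := coef add mul zero one a b n
    (add (mul t.1 a) t.2.1, add (mul t.1 b) t.2.2, t.1)

theorem pow_eq_one_of_coef {C F A : Type*} [CommRing F] [Ring A] [Algebra F A]
    (add mul : C → C → C) (zero one a b : C) (v : C → F)
    (hadd : ∀ x y, v (add x y) = v x + v y) (hmul : ∀ x y, v (mul x y) = v x * v y)
    (h0 : v zero = 0) (h1 : v one = 1) {X : A}
    (hX : X ^ 3 = v a • X ^ 2 + v b • X + 1) {n : ℕ}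
    (hn : coef add mul zero one a b n = (zero, zero, one)) : X ^ n = 1 := by
  have key : ∀ m, X ^ m = v (coef add mul zero one a b m).1 • X ^ 2 +
      v (coef add mul zero one a b m).2.1 • X + v (coef add mul zero one a b m).2.2 • (1 : A) := by
    intro m
    induction m with
    | zero => simp [coef, h0, h1]
    | succ m ih =>
      rw [pow_succ, ih]
      simp only [coef, hadd, hmul, add_mul, smul_mul_assoc, one_mul, ← pow_succ, ← pow_two]
      rw [hX]
      simp only [smul_add, add_smul, mul_smul]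
      abel
  rw [key n, hn, h0, h1]
  simp

/-- Cayley–Hamilton in dimension three. -/
theorem cube_eq {F : Type*} [CommRing F] (X : Matrix (Fin 3) (Fin 3) F) :
    X ^ 3 = X.trace • X ^ 2 + (-X.adjugate.trace) • X + X.det • (1 : Matrix (Fin 3) (Fin 3) F) := by
  rw [pow_succ, pow_two]
  ext i j
  fin_cases i <;> fin_cases j <;>
    simp [Matrix.mul_apply, Fin.sum_univ_three, Matrix.adjugate_fin_three, Matrix.det_fin_three,
      Matrix.trace, Matrix.diag] <;> ring

/-! ### Codes -/

theorem castHom_surjective {F : Type*} [Field F] [Fintype F] [CharP F 3] (h : Fintype.card F = 3) :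
    Function.Surjective (ZMod.castHom (dvd_refl 3) F) := by
  haveI : Fact (Nat.Prime 3) := ⟨Nat.prime_three⟩
  refine (((Fintype.bijective_iff_injective_and_card _).mpr ⟨RingHom.injective _, ?_⟩)).2
  rw [ZMod.card, h]

theorem charP_three {F : Type*} [Field F] [Fintype F] {k : ℕ} (h : Fintype.card F = 3 ^ k) :
    CharP F 3 := by
  haveI : Fact (Nat.Prime 3) := ⟨Nat.prime_three⟩
  exact charP_of_card_eq_prime_pow (f := k) h

/-! ### `PSL₃(3)` -/

/-- The exponents of the roots of the cubics over `ZMod 3`. -/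
theorem coef_table : ∀ a b : ZMod 3, ∃ n : Fin 3,
    coef (· + ·) (· * ·) 0 1 a b ([6, 8, 13][(n : ℕ)]?.getD 0) = (0, 0, 1) := by decide +kernel

def wit : Fin 3 → Matrix (Fin 3) (Fin 3) (ZMod 3)
  | 0 => !![0, 0, 1; 0, 1, 0; 2, 0, 1]
  | 1 => !![0, 0, 1; 0, 1, 1; 2, 1, 0]
  | 2 => !![0, 0, 1; 0, 1, 1; 2, 1, 1]

theorem wit_det : ∀ i, (wit i).det = 1 := by decide +kernel

theorem wit_pow : ∀ i : Fin 3, wit i ^ ([6, 8, 13][(i : ℕ)]?.getD 0) = 1 := by decide +kernel

theorem wit_noncentral : ∀ i : Fin 3, ∀ k : Fin 13, 0 < (k : ℕ) →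
    (k : ℕ) < [6, 8, 13][(i : ℕ)]?.getD 0 →
    ∃ j : Fin 3, wit j * wit i ^ (k : ℕ) ≠ wit i ^ (k : ℕ) * wit j := by decide +kernel

/-- The element orders of `PSL₃(3)`. -/
theorem range_psl {F : Type*} [Field F] [Fintype F] (hF : Fintype.card F = 3) :
    Set.range (orderOf : Matrix.ProjectiveSpecialLinearGroup (Fin 3) F → ℕ) =
      {d | ∃ n ∈ [13, 6, 8], d ∣ n} := by
  haveI : Fact (Nat.Prime 3) := ⟨Nat.prime_three⟩
  haveI : CharP F 3 := charP_three (k := 1) (by rw [hF, pow_one])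
  set c := ZMod.castHom (dvd_refl 3) F with hc
  refine range_eq_of ?_ ?_
  · intro x
    obtain ⟨g, rfl⟩ := QuotientGroup.mk'_surjective _ x
    obtain ⟨a, ha⟩ := castHom_surjective hF (g : Matrix (Fin 3) (Fin 3) F).trace
    obtain ⟨b, hb⟩ := castHom_surjective hF (-(g : Matrix (Fin 3) (Fin 3) F).adjugate.trace)
    obtain ⟨i, hi⟩ := coef_table a b
    refine ⟨[6, 8, 13][(i : ℕ)]?.getD 0, ?_, ?_⟩
    · clear hi; revert i; decide
    · rw [← map_pow]
      refine (congrArg _ (Subtype.ext ?_)).trans (map_one _)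
      rw [Matrix.SpecialLinearGroup.coe_pow, Matrix.SpecialLinearGroup.coe_one]
      refine pow_eq_one_of_coef (· + ·) (· * ·) 0 1 a b c (map_add c) (map_mul c) (map_zero c)
        (map_one c) ?_ hi
      rw [ha, hb, cube_eq, g.2, one_smul]
  · intro n hn
    obtain ⟨i, rfl⟩ : ∃ i : Fin 3, [6, 8, 13][(i : ℕ)]?.getD 0 = n := by
      simp only [List.mem_cons, List.not_mem_nil, or_false] at hn
      rcases hn with rfl | rfl | rfl
      exacts [⟨2, rfl⟩, ⟨0, rfl⟩, ⟨1, rfl⟩]
    let M : Fin 3 → Matrix.SpecialLinearGroup (Fin 3) F := fun j =>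
      ⟨c.mapMatrix (wit j), by rw [← RingHom.map_det, wit_det, map_one]⟩
    have hM : ∀ j k, ((M j ^ k : Matrix.SpecialLinearGroup (Fin 3) F) :
        Matrix (Fin 3) (Fin 3) F) = c.mapMatrix (wit j ^ k) := fun j k => by
      rw [Matrix.SpecialLinearGroup.coe_pow, map_pow]
    have hinj : Function.Injective (c.mapMatrix (m := Fin 3)) := fun A B h => by
      ext r s
      exact RingHom.injective c (congrFun (congrFun h r) s)
    refine ⟨QuotientGroup.mk' _ (M i), orderOf_mk ?_ ?_ ?_, ?_⟩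
    · revert i; decide
    · refine Subtype.ext ((hM i _).trans ?_)
      rw [wit_pow, map_one]; rfl
    · intro k hk0 hk
      have hk13 : k < 13 := by
        have : ∀ i : Fin 3, [6, 8, 13][(i : ℕ)]?.getD 0 ≤ 13 := by decide
        exact hk.trans_le (this i)
      obtain ⟨j, hj⟩ := wit_noncentral i ⟨k, hk13⟩ hk0 hk
      refine ⟨M j, fun e => hj (hinj ?_)⟩
      have e' := congrArg Subtype.val e
      simp only [Matrix.SpecialLinearGroup.coe_mul, hM] at e'
      rw [map_mul, map_mul]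
      exact e'
    · revert i; decide

/-! ### `PSU₃(3)` -/

/-- The exponents of the roots of the unitary cubics over `𝔽₉`. -/
theorem coef_table_u : ∀ a : Code, ∃ n : Fin 3,
    coef cadd cmul (0, 0) (1, 0) a (cneg (cconj a)) ([7, 8, 12][(n : ℕ)]?.getD 0) =
      ((0, 0), (0, 0), (1, 0)) := by decide +kernel

def witU : Fin 3 → CMat
  | 0 => (((0, 0), (1, 1), (1, 1)), ((0, 0), (1, 1), (2, 2)), ((0, 1), (0, 0), (0, 0)))
  | 1 => (((0, 0), (0, 0), (1, 0)), ((0, 0), (0, 1), (0, 0)), ((0, 1), (0, 0), (0, 0)))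
  | 2 => (((0, 0), (1, 1), (1, 2)), ((0, 0), (2, 1), (2, 2)), ((0, 1), (0, 0), (0, 0)))

/-- Powers of a code. -/
def powU (m : CMat) : ℕ → CMat
  | 0 => cOne
  | n + 1 => mulM (powU m n) m

theorem witU_unitary : ∀ i, UnitaryC (witU i) ∧ cdet (witU i) = (1, 0) := by
  unfold UnitaryC
  decide +kernel

theorem witU_pow : ∀ i : Fin 3, powU (witU i) ([7, 8, 12][(i : ℕ)]?.getD 0) = cOne := by
  decide +kernel

theorem witU_noncentral : ∀ i : Fin 3, ∀ k : Fin 12, 0 < (k : ℕ) →
    (k : ℕ) < [7, 8, 12][(i : ℕ)]?.getD 0 →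
    ∃ j : Fin 3, mulM (witU j) (powU (witU i) (k : ℕ)) ≠ mulM (powU (witU i) (k : ℕ)) (witU j) := by
  decide +kernel

theorem code_norm : ∀ x : Code, cmul x (cconj x) = (0, 0) → x = (0, 0) := by decide +kernel

section

variable {F : Type*} [Field F] [CharP F 3] {s : F}

theorem val_injective (hs : s * s = -1) : Function.Injective (val s : Code → F) := by
  haveI : Fact (Nat.Prime 3) := ⟨Nat.prime_three⟩
  intro x y h
  have h0 : val s (cadd x (cneg y)) = 0 := by rw [val_add, val_neg, h, add_neg_cancel]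
  have h1 : val s (cmul (cadd x (cneg y)) (cconj (cadd x (cneg y)))) = 0 := by
    rw [val_mul hs, h0, zero_mul]
  have h2 : (cmul (cadd x (cneg y)) (cconj (cadd x (cneg y)))).2 = 0 := by
    simp only [cmul, cconj]; ring
  simp only [val, h2, map_zero, zero_mul, add_zero] at h1
  have h3 := code_norm _ (Prod.ext (RingHom.injective _ (h1.trans (map_zero _).symm)) h2)
  simp only [cadd, cneg, Prod.mk.injEq, ← sub_eq_add_neg, sub_eq_zero] at h3
  exact Prod.ext h3.1 h3.2

theorem toMat_injective (hs : s * s = -1) {a b : CMat} (h : toMat s a = toMat s b) : a = b := by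
  have k := fun i j => congrFun (congrFun h i) j
  have hv := val_injective (s := s) hs
  have e00 := hv (k 0 0)
  have e01 := hv (k 0 1)
  have e02 := hv (k 0 2)
  have e10 := hv (k 1 0)
  have e11 := hv (k 1 1)
  have e12 := hv (k 1 2)
  have e20 := hv (k 2 0)
  have e21 := hv (k 2 1)
  have e22 := hv (k 2 2)
  exact Prod.ext (Prod.ext e00 (Prod.ext e01 e02))
    (Prod.ext (Prod.ext e10 (Prod.ext e11 e12)) (Prod.ext e20 (Prod.ext e21 e22)))

/-- An element of `SU₃` satisfies its cubic with conjugate coefficients. -/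
theorem cube_eq_unitary [Fintype F] (g : SU 3 F 3) :
    ((g : Matrix.SpecialLinearGroup (Fin 3) F) : Matrix (Fin 3) (Fin 3) F) ^ 3 =
      ((g : Matrix.SpecialLinearGroup (Fin 3) F) : Matrix (Fin 3) (Fin 3) F).trace •
          ((g : Matrix.SpecialLinearGroup (Fin 3) F) : Matrix (Fin 3) (Fin 3) F) ^ 2 +
        (-(((g : Matrix.SpecialLinearGroup (Fin 3) F) : Matrix (Fin 3) (Fin 3) F).trace ^ 3)) •
          ((g : Matrix.SpecialLinearGroup (Fin 3) F) : Matrix (Fin 3) (Fin 3) F) + 1 := by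
  haveI : Fact (Nat.Prime 3) := ⟨Nat.prime_three⟩
  set X := ((g : Matrix.SpecialLinearGroup (Fin 3) F) : Matrix (Fin 3) (Fin 3) F) with hX
  have hdet : X.det = 1 := g.1.2
  have horth : (X.map (fun x => x ^ 3))ᵀ * X = 1 := by
    ext j k
    have h := g.2 (Pi.single k 1) (Pi.single j 1)
    change hermForm 3 F 3 (X *ᵥ Pi.single k 1) (X *ᵥ Pi.single j 1) = _ at h
    rw [Matrix.mulVec_single_one, Matrix.mulVec_single_one] at h
    simp only [hermForm, Matrix.col_apply] at h
    rw [Matrix.mul_apply]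
    simp only [Matrix.transpose_apply, Matrix.map_apply]
    rw [Finset.sum_congr rfl fun i _ => mul_comm (X i j ^ 3) (X i k), h]
    rcases eq_or_ne j k with rfl | hjk
    · simp [Pi.single_apply]
    · simp [Pi.single_apply, Matrix.one_apply_ne hjk, hjk]
  have hadj : X.adjugate = (X.map (fun x => x ^ 3))ᵀ := by
    refine (left_inv_eq_right_inv horth ?_).symm
    rw [Matrix.mul_adjugate, hdet, one_smul]
  have htr : X.adjugate.trace = X.trace ^ 3 := by
    simp [hadj, Matrix.trace, Matrix.diag, Fin.sum_univ_three, add_pow_char]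
  rw [cube_eq, htr, hdet, one_smul]

end

/-- The element orders of `PSU₃(3)`. -/
theorem range_psu {F : Type*} [Field F] [Fintype F] (hF : Fintype.card F = 9) :
    Set.range (orderOf : Cfsg.PSU 3 F 3 → ℕ) = {d | ∃ n ∈ [7, 8, 12], d ∣ n} := by
  haveI : Fact (Nat.Prime 3) := ⟨Nat.prime_three⟩
  haveI : CharP F 3 := charP_three (k := 2) (by rw [hF]; rfl)
  obtain ⟨s, hs⟩ := FiniteField.isSquare_neg_one_iff.mpr
    (show Fintype.card F % 4 ≠ 3 by rw [hF]; decide)
  replace hs : s * s = -1 := hs.symm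
  have hsurj : Function.Surjective (val s : Code → F) :=
    ((Fintype.bijective_iff_injective_and_card _).mpr ⟨val_injective hs, by rw [hF]; decide⟩).2
  have hcoe : ∀ (g : SU 3 F 3) (k : ℕ),
      (((g ^ k : SU 3 F 3) : Matrix.SpecialLinearGroup (Fin 3) F) : Matrix (Fin 3) (Fin 3) F) =
        ((g : Matrix.SpecialLinearGroup (Fin 3) F) : Matrix (Fin 3) (Fin 3) F) ^ k := fun g k => by
    rw [SubgroupClass.coe_pow, Matrix.SpecialLinearGroup.coe_pow]
  refine range_eq_of ?_ ?_
  · intro x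
    obtain ⟨g, rfl⟩ := QuotientGroup.mk'_surjective (Subgroup.center (SU 3 F 3)) x
    obtain ⟨a, ha⟩ := hsurj ((g : Matrix.SpecialLinearGroup (Fin 3) F) :
      Matrix (Fin 3) (Fin 3) F).trace
    obtain ⟨i, hi⟩ := coef_table_u a
    refine ⟨[7, 8, 12][(i : ℕ)]?.getD 0, ?_, ?_⟩
    · clear hi; revert i; decide
    · rw [← map_pow]
      refine (congrArg _ (Subtype.ext (Subtype.ext ?_))).trans (map_one _)
      rw [hcoe]
      refine pow_eq_one_of_coef cadd cmul (0, 0) (1, 0) a (cneg (cconj a)) (val s) (val_add s)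
        (val_mul hs) (val_zero s) (val_one s) ?_ hi
      rw [val_neg, val_conj hs, ha]
      exact cube_eq_unitary g
  · intro n hn
    obtain ⟨i, rfl⟩ : ∃ i : Fin 3, [7, 8, 12][(i : ℕ)]?.getD 0 = n := by
      simp only [List.mem_cons, List.not_mem_nil, or_false] at hn
      rcases hn with rfl | rfl | rfl
      exacts [⟨0, rfl⟩, ⟨1, rfl⟩, ⟨2, rfl⟩]
    let M : Fin 3 → SU 3 F 3 := fun j => suElem hs (witU_unitary j).1 (witU_unitary j).2
    have hM : ∀ j k, (((M j ^ k : SU 3 F 3) : Matrix.SpecialLinearGroup (Fin 3) F) :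
        Matrix (Fin 3) (Fin 3) F) = toMat s (powU (witU j) k) := by
      intro j k
      induction k with
      | zero => rw [pow_zero, powU, toMat_one]; rfl
      | succ k ih =>
        rw [pow_succ, Subgroup.coe_mul, Matrix.SpecialLinearGroup.coe_mul, ih, powU, toMat_mul hs]
        rfl
    refine ⟨QuotientGroup.mk' _ (M i), orderOf_mk ?_ ?_ ?_, ?_⟩
    · revert i; decide
    · refine Subtype.ext (Subtype.ext ((hM i _).trans ?_))
      rw [witU_pow, toMat_one]; rfl
    · intro k hk0 hk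
      have hk12 : k < 12 := by
        have : ∀ i : Fin 3, [7, 8, 12][(i : ℕ)]?.getD 0 ≤ 12 := by decide
        exact hk.trans_le (this i)
      obtain ⟨j, hj⟩ := witU_noncentral i ⟨k, hk12⟩ hk0 hk
      refine ⟨M j, fun e => hj (toMat_injective hs ?_)⟩
      have e' := congrArg (fun z : SU 3 F 3 =>
        ((z : Matrix.SpecialLinearGroup (Fin 3) F) : Matrix (Fin 3) (Fin 3) F)) e
      simp only [Subgroup.coe_mul, Matrix.SpecialLinearGroup.coe_mul, hM] at e'
      rw [toMat_mul hs, toMat_mul hs]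
      exact e'
    · revert i; decide

end Cfsg.Agent.Fus2.SpecLie
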