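import Mathlib
import Cfsg.Agent.Fus2.SpecSmallLie

/-!
A solvable 2-Frobenius group whose element orders are the divisors of 5, 9 and 12:
a 3-group of exponent 9 on seven coordinates over `𝔽₈₁`, extended by `5 : 4`.
-/

set_option autoImplicit false

namespace Cfsg.Agent.Fus2.SpecTwoFrob

/-- Seven coordinates over `R`. -/
@[ext] structure Uni (R : Type) where
  x : R
  y : R
  s₁ : R
  s₂ : R
  t₁ : R
  t₂ : R
  u : R

variable {R : Type} [Field R] [hR : CharP R 3]

local instance : Fact (Nat.Prime 3) := ⟨Nat.prime_three⟩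

instance : Mul (Uni R) :=
  ⟨fun a b => ⟨a.x + b.x, a.y + b.y, a.s₁ + b.s₁ + a.x * b.x ^ 3, a.s₂ + b.s₂ + a.y * b.x ^ 3,
    a.t₁ + b.t₁ + a.x ^ 3 * b.y ^ 9, a.t₂ + b.t₂ - a.x ^ 3 * b.x ^ 9,
    a.u + b.u + a.x * b.t₁ + a.y * b.t₂ + a.s₁ * b.y ^ 9 - a.s₂ * b.x ^ 9⟩⟩

instance : One (Uni R) := ⟨⟨0, 0, 0, 0, 0, 0, 0⟩⟩

instance : Inv (Uni R) :=
  ⟨fun a => ⟨-a.x, -a.y, -a.s₁ + a.x ^ 4, -a.s₂ + a.y * a.x ^ 3, -a.t₁ + a.x ^ 3 * a.y ^ 9,
    -a.t₂ - a.x ^ 12,
    -(a.u + a.x * (-a.t₁ + a.x ^ 3 * a.y ^ 9) + a.y * (-a.t₂ - a.x ^ 12) + a.s₁ * (-a.y) ^ 9 -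
      a.s₂ * (-a.x) ^ 9)⟩⟩

theorem mul_def (a b : Uni R) : a * b =
    ⟨a.x + b.x, a.y + b.y, a.s₁ + b.s₁ + a.x * b.x ^ 3, a.s₂ + b.s₂ + a.y * b.x ^ 3,
      a.t₁ + b.t₁ + a.x ^ 3 * b.y ^ 9, a.t₂ + b.t₂ - a.x ^ 3 * b.x ^ 9,
      a.u + b.u + a.x * b.t₁ + a.y * b.t₂ + a.s₁ * b.y ^ 9 - a.s₂ * b.x ^ 9⟩ := rfl

theorem one_def : (1 : Uni R) = ⟨0, 0, 0, 0, 0, 0, 0⟩ := rfl

theorem add_pow_three (a b : R) : (a + b) ^ 3 = a ^ 3 + b ^ 3 := add_pow_char a b 3

theorem add_pow_nine (a b : R) : (a + b) ^ 9 = a ^ 9 + b ^ 9 := by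
  rw [show 9 = 3 ^ 2 from rfl, add_pow_char_pow]

theorem neg_pow_three (a : R) : (-a) ^ 3 = -a ^ 3 := (show Odd 3 by decide).neg_pow a

theorem neg_pow_nine (a : R) : (-a) ^ 9 = -a ^ 9 := (show Odd 9 by decide).neg_pow a

instance : Group (Uni R) :=
  Group.ofRightAxioms
    (fun a b c => by
      simp only [mul_def]
      ext <;> simp only [add_pow_three, add_pow_nine] <;> ring)
    (fun a => by
      simp only [mul_def, one_def]
      ext <;> simp)
    (fun a => by
      show a * (⟨-a.x, -a.y, -a.s₁ + a.x ^ 4, -a.s₂ + a.y * a.x ^ 3, -a.t₁ + a.x ^ 3 * a.y ^ 9,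
        -a.t₂ - a.x ^ 12,
        -(a.u + a.x * (-a.t₁ + a.x ^ 3 * a.y ^ 9) + a.y * (-a.t₂ - a.x ^ 12) + a.s₁ * (-a.y) ^ 9 -
          a.s₂ * (-a.x) ^ 9)⟩ : Uni R) = 1
      simp only [mul_def, one_def]
      ext <;> simp only [neg_pow_three, neg_pow_nine] <;> ring)

instance [Finite R] : Finite (Uni R) :=
  Finite.of_injective (fun a => (a.x, a.y, a.s₁, a.s₂, a.t₁, a.t₂, a.u)) fun a b h => by
    simp only [Prod.mk.injEq] at h
    exact Uni.ext h.1 h.2.1 h.2.2.1 h.2.2.2.1 h.2.2.2.2.1 h.2.2.2.2.2.1 h.2.2.2.2.2.2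

/-- The cube of an element is its corner cubic. -/
theorem cube_eq (a : Uni R) :
    a ^ 3 = ⟨0, 0, 0, 0, 0, 0, a.x ^ 4 * a.y ^ 9 - a.y * a.x ^ 12⟩ := by
  have h3 : (3 : R) = 0 := by exact_mod_cast CharP.cast_eq_zero R 3
  rw [pow_succ, pow_two]
  simp only [mul_def]
  ext
  · linear_combination a.x * h3
  · linear_combination a.y * h3
  · linear_combination (a.s₁ + a.x ^ 4) * h3
  · linear_combination (a.s₂ + a.y * a.x ^ 3) * h3
  · linear_combination (a.t₁ + 3 * (a.x ^ 3 * a.y ^ 9)) * h3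
  · linear_combination (a.t₂ - 3 * a.x ^ 12) * h3
  · linear_combination
      (a.u + a.x * a.t₁ + a.y * a.t₂ + a.s₁ * a.y ^ 9 - a.s₂ * a.x ^ 9) * h3

theorem pow_nine (a : Uni R) : a ^ 9 = 1 := by
  rw [show 9 = 3 * 3 from rfl, pow_mul, cube_eq (a ^ 3), cube_eq a]
  simp [one_def]

/-- The semilinear map given by `z` and `k`. -/
def phi (z : R) (k : ℕ) (a : Uni R) : Uni R :=
  ⟨z * a.x ^ 3 ^ k, z * a.y ^ 3 ^ k, z ^ 4 * a.s₁ ^ 3 ^ k, z ^ 4 * a.s₂ ^ 3 ^ k,
    z ^ 12 * a.t₁ ^ 3 ^ k, z ^ 12 * a.t₂ ^ 3 ^ k, z ^ 13 * a.u ^ 3 ^ k⟩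

theorem phi_mul (z : R) (k : ℕ) (a b : Uni R) : phi z k (a * b) = phi z k a * phi z k b := by
  have hq : ∀ (c : R) (e : ℕ), (c ^ e) ^ 3 ^ k = (c ^ 3 ^ k) ^ e := fun c e => pow_right_comm c e _
  simp only [phi, mul_def, sub_eq_add_neg]
  ext <;>
    simp only [add_pow_char_pow, mul_pow, hq, (Odd.pow (show Odd 3 by decide)).neg_pow] <;> ring

theorem phi_phi (z w : R) (k l : ℕ) (a : Uni R) :
    phi z k (phi w l a) = phi (z * w ^ 3 ^ k) (l + k) a := by
  have hq : ∀ (c : R) (e : ℕ), (c ^ e) ^ 3 ^ k = (c ^ 3 ^ k) ^ e := fun c e => pow_right_comm c e _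
  simp only [phi, pow_add (3 : ℕ) l k, pow_mul, mul_pow, hq]
  ext <;> ring

theorem phi_one_zero (a : Uni R) : phi 1 0 a = a := by
  ext <;> simp [phi]

/-- The automorphisms of the form `phi`. -/
def autMonoid (R : Type) [Field R] [CharP R 3] : Submonoid (MulAut (Uni R)) where
  carrier := {e | ∃ (z : R) (k : ℕ), z ^ 5 = 1 ∧ ∀ a, e a = phi z k a}
  one_mem' := ⟨1, 0, one_pow 5, fun a => (phi_one_zero a).symm⟩
  mul_mem' := fun {e f} ⟨z, k, hz, he⟩ ⟨w, l, hw, hf⟩ =>
    ⟨z * w ^ 3 ^ k, l + k, by rw [mul_pow, pow_right_comm, hz, hw, one_pow, one_mul],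
      fun a => by rw [MulAut.mul_apply, hf, he, phi_phi]⟩

variable [Fintype R]

theorem finite_aut : Finite (MulAut (Uni R)) :=
  Finite.of_injective (fun e => (e : Uni R → Uni R)) fun _ _ h => MulEquiv.ext (congrFun h)

/-- The group `5 : 4` of automorphisms. -/
def autGroup (R : Type) [Field R] [Fintype R] [CharP R 3] : Subgroup (MulAut (Uni R)) :=
  { autMonoid R with
    inv_mem' := fun {e} he => by
      haveI := finite_aut (R := R)
      obtain ⟨n, hn⟩ : ∃ n, e ^ n = e⁻¹ := ⟨orderOf e - 1, by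
        rw [eq_inv_iff_mul_eq_one, ← pow_succ, Nat.sub_add_cancel (orderOf_pos e),
          pow_orderOf_eq_one]⟩
      exact hn ▸ (autMonoid R).pow_mem he n }

theorem mem_autGroup {e : MulAut (Uni R)} :
    e ∈ autGroup R ↔ ∃ (z : R) (k : ℕ), z ^ 5 = 1 ∧ ∀ a, e a = phi z k a := Iff.rfl

/-- Every `phi` with `z⁵ = 1` is in the group. -/
theorem exists_aut (z : R) (hz : z ^ 5 = 1) (k : ℕ) :
    ∃ e : autGroup R, ∀ a, (e : MulAut (Uni R)) a = phi z k a := by
  have hz0 : z ≠ 0 := fun h => by simp [h] at hz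
  have hinj : ∀ {c d : R} {e : ℕ}, z ^ e * c ^ 3 ^ k = z ^ e * d ^ 3 ^ k → c = d := fun h =>
    iterateFrobenius_inj R 3 k (by
      simpa only [iterateFrobenius_def] using mul_left_cancel₀ (pow_ne_zero _ hz0) h)
  let f : Uni R →* Uni R :=
    { toFun := phi z k
      map_one' := by simp [phi, one_def]
      map_mul' := phi_mul z k }
  have hf : Function.Bijective f := by
    refine Finite.injective_iff_bijective.mp fun a b h => ?_
    have hh : phi z k a = phi z k b := h
    simp only [phi, Uni.mk.injEq] at hh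
    obtain ⟨h1, h2, h3, h4, h5, h6, h7⟩ := hh
    exact Uni.ext (hinj (e := 1) (by rwa [pow_one])) (hinj (e := 1) (by rwa [pow_one]))
      (hinj h3) (hinj h4) (hinj h5) (hinj h6) (hinj h7)
  exact ⟨⟨MulEquiv.ofBijective f hf, z, k, hz, fun a => rfl⟩, fun a => rfl⟩

/-- Frobenius powers only matter modulo four. -/
theorem phi_mod (hcard : Fintype.card R = 81) (z : R) (k : ℕ) (a : Uni R) :
    phi z k a = phi z (k % 4) a := by
  have h : ∀ c : R, c ^ 3 ^ k = c ^ 3 ^ (k % 4) := fun c => by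
    conv_lhs => rw [← Nat.mod_add_div k 4, pow_add, pow_mul 3 4, pow_mul,
      show (3 : ℕ) ^ 4 = Fintype.card R from hcard.symm, FiniteField.pow_card_pow]
  simp only [phi, h]

theorem solvable_autGroup : Group.IsSolvable (autGroup R) := by
  let A : Subgroup (autGroup R) :=
    Subgroup.closure {e | ∃ z : R, z ^ 5 = 1 ∧ ∀ a, (e : MulAut (Uni R)) a = phi z 0 a}
  have hcomm : ∀ g ∈ A, ∀ h ∈ A, g * h = h * g := by
    intro g hg h hh
    have hc := Subgroup.closure_le_centralizer_centralizer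
      ({e | ∃ z : R, z ^ 5 = 1 ∧ ∀ a, (e : MulAut (Uni R)) a = phi z 0 a} : Set (autGroup R))
    refine Subgroup.mem_centralizer_iff.mp (hc hh) g ?_
    refine (Subgroup.closure_le _).mpr (fun e he => Subgroup.mem_centralizer_iff.mpr ?_) hg
    rintro e' ⟨z, -, hz⟩
    obtain ⟨w, -, hw⟩ := he
    refine Subtype.ext (MulEquiv.ext fun a => ?_)
    simp only [Subgroup.coe_mul, MulAut.mul_apply, hz, hw, phi_phi, pow_zero, pow_one,
      mul_comm z w]
  have hle : ∀ g h : autGroup R, g * h * g⁻¹ * h⁻¹ ∈ A := by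
    intro g h
    obtain ⟨z, k, hz, hg⟩ := mem_autGroup.mp g.2
    obtain ⟨w, l, hw, hh⟩ := mem_autGroup.mp h.2
    obtain ⟨z', k', hz', hg'⟩ := mem_autGroup.mp (g⁻¹).2
    obtain ⟨w', l', hw', hh'⟩ := mem_autGroup.mp (h⁻¹).2
    have key : ∀ (e e' : autGroup R) (z z' : R) (k k' : ℕ), e * e' = 1 →
        (∀ a, (e : MulAut (Uni R)) a = phi z k a) → (∀ a, (e' : MulAut (Uni R)) a = phi z' k' a) →
        ∀ c : R, c ^ 3 ^ (k' + k) = c := by
      intro e e' z z' k k' he h1 h2 c
      have h3 : ∀ d : R, z * z' ^ 3 ^ k * d ^ 3 ^ (k' + k) = d := fun d => by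
        have := congrArg (fun e : autGroup R =>
          ((e : MulAut (Uni R)) (⟨d, 0, 0, 0, 0, 0, 0⟩ : Uni R)).x) he
        simp only [Subgroup.coe_mul, MulAut.mul_apply, h1, h2, phi_phi, OneMemClass.coe_one,
          MulAut.one_apply] at this
        exact this
      have h4 := h3 1
      rw [one_pow, mul_one] at h4
      simpa [h4] using h3 c
    have k1 := key g g⁻¹ z z' k k' (mul_inv_cancel g) hg hg'
    have k2 := key h h⁻¹ w w' l l' (mul_inv_cancel h) hh hh'
    obtain ⟨Z, hZ5, hZ⟩ : ∃ Z : R, Z ^ 5 = 1 ∧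
        ∀ a, ((g * h * g⁻¹ * h⁻¹ : autGroup R) : MulAut (Uni R)) a =
          phi Z (l' + (k' + (l + k))) a := by
      refine ⟨z * (w * (z' * w' ^ 3 ^ k') ^ 3 ^ l) ^ 3 ^ k, ?_, fun a => ?_⟩
      · simp only [mul_pow, pow_right_comm _ _ 5, hz, hw, hz', hw', one_pow, mul_one]
      · simp only [Subgroup.coe_mul, MulAut.mul_apply, hg, hh, hg', hh', phi_phi, add_assoc]
    refine Subgroup.subset_closure ⟨Z, hZ5, fun a => ?_⟩
    have h5 : ∀ c : R, c ^ 3 ^ (l' + (k' + (l + k))) = c := fun c => by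
      rw [show l' + (k' + (l + k)) = (k' + k) + (l' + l) by ring, pow_add, pow_mul, k1, k2]
    rw [hZ]
    simp only [phi, h5, pow_zero, pow_one]
  have h1 : derivedSeries (autGroup R) 1 ≤ A := by
    rw [derivedSeries_succ, derivedSeries_zero, Subgroup.commutator_le]
    intro g _ h _
    rw [commutatorElement_def]
    exact hle g h
  refine ⟨⟨2, ?_⟩⟩
  rw [derivedSeries_succ, eq_bot_iff, Subgroup.commutator_le]
  intro g hg h hh
  rw [Subgroup.mem_bot, commutatorElement_eq_one_iff_mul_comm]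
  exact hcomm g (h1 hg) h (h1 hh)

/-- The 2-Frobenius group. -/
abbrev Grp (R : Type) [Field R] [Fintype R] [CharP R 3] : Type :=
  SemidirectProduct (Uni R) (autGroup R) (autGroup R).subtype

instance : Finite (Grp R) := by
  haveI := finite_aut (R := R)
  exact Finite.of_injective (fun p => (p.left, p.right)) fun p q e =>
    SemidirectProduct.ext (congrArg Prod.fst e) (congrArg Prod.snd e)

theorem pow_right (p : Grp R) (n : ℕ) : (p ^ n).right = p.right ^ n := by
  rw [← SemidirectProduct.rightHom_eq_right, map_pow]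

theorem eq_inl {p : Grp R} (h : p.right = 1) : p = SemidirectProduct.inl p.left :=
  SemidirectProduct.ext rfl h

/-- A power in the kernel commutes with the element. -/
theorem pow_left_comm (p : Grp R) {n : ℕ} (h : p.right ^ n = 1) :
    p.left * (p.right : MulAut (Uni R)) (p ^ n).left = (p ^ n).left * p.left := by
  have h1 : (p * p ^ n).left = (p ^ n * p).left := by rw [(Commute.self_pow p n).eq]
  rw [SemidirectProduct.mul_left, SemidirectProduct.mul_left, pow_right, h, map_one,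
    MulAut.one_apply] at h1
  exact h1

theorem pow_six_of_two (p : Grp R) {z : R} (hz : z ^ 5 = 1)
    (hg : ∀ a, (p.right : MulAut (Uni R)) a = phi z 2 a) (hcard : Fintype.card R = 81) :
    p.right ^ 2 = 1 ∧ p ^ 6 = 1 := by
  have hg2 : p.right ^ 2 = 1 := by
    refine Subtype.ext (MulEquiv.ext fun a => ?_)
    simp only [pow_two, Subgroup.coe_mul, MulAut.mul_apply, hg, phi_phi]
    rw [phi_mod hcard, show z * z ^ (3 * 3) = (z ^ 5) ^ 2 by ring, hz, one_pow]
    exact phi_one_zero a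
  refine ⟨hg2, ?_⟩
  have hb := pow_left_comm p hg2
  set b := (p ^ 2).left with hbdef
  rw [hg] at hb
  have hx : z * b.x ^ 9 = b.x := by
    have := congrArg Uni.x hb
    simp only [mul_def, phi] at this
    linear_combination this
  have hy : z * b.y ^ 9 = b.y := by
    have := congrArg Uni.y hb
    simp only [mul_def, phi] at this
    linear_combination this
  have hz0 : z ≠ 0 := fun h => by simp [h] at hz
  have hP : b.x ^ 4 * b.y ^ 9 - b.y * b.x ^ 12 = 0 := by
    refine mul_left_cancel₀ hz0 ?_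
    rw [mul_zero]
    linear_combination b.x ^ 4 * hy - b.y * b.x ^ 3 * hx
  have h3 : b ^ 3 = 1 := by rw [cube_eq, hP]; rfl
  have h2 : p ^ 2 = SemidirectProduct.inl b := eq_inl (by rw [pow_right, hg2])
  rw [show 6 = 2 * 3 from rfl, pow_mul, h2, ← map_pow, h3, map_one]

theorem exponent_cases (hcard : Fintype.card R = 81) (p : Grp R) :
    ∃ n ∈ [5, 9, 12], p ^ n = 1 := by
  obtain ⟨z, k, hz, hg⟩ := mem_autGroup.mp p.right.2
  have hg' : ∀ a, (p.right : MulAut (Uni R)) a = phi z (k % 4) a := fun a => by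
    rw [hg, phi_mod hcard]
  have hk : k % 4 < 4 := Nat.mod_lt _ (by norm_num)
  obtain h | h | h : k % 4 = 0 ∨ k % 4 = 2 ∨ (k % 4 = 1 ∨ k % 4 = 3) := by omega
  · rw [h] at hg'
    rcases eq_or_ne z 1 with rfl | hz1
    · have : p.right = 1 := Subtype.ext (MulEquiv.ext fun a => by rw [hg', phi_one_zero]; rfl)
      refine ⟨9, by simp, ?_⟩
      rw [eq_inl this, ← map_pow, pow_nine, map_one]
    · have hgn : ∀ (n : ℕ) a, ((p.right ^ n : autGroup R) : MulAut (Uni R)) a = phi (z ^ n) 0 a := by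
        intro n
        induction n with
        | zero => intro a; rw [pow_zero, pow_zero, phi_one_zero]; rfl
        | succ n ih =>
          intro a
          rw [pow_succ, Subgroup.coe_mul, MulAut.mul_apply, hg', ih, phi_phi, pow_zero, pow_one,
            ← pow_succ]
      have hg5 : p.right ^ 5 = 1 :=
        Subtype.ext (MulEquiv.ext fun a => by rw [hgn, hz, phi_one_zero]; rfl)
      have hb := pow_left_comm p hg5
      set b := (p ^ 5).left with hbdef
      rw [hg'] at hb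
      simp only [mul_def, phi, pow_zero, pow_one, Uni.mk.injEq] at hb
      obtain ⟨e1, e2, e3, e4, e5, e6, e7⟩ := hb
      have hne : ∀ e : ℕ, ¬ 5 ∣ e → z ^ e - 1 ≠ 0 := fun e he h0 => by
        haveI : Fact (Nat.Prime 5) := ⟨by norm_num⟩
        have ho : orderOf z = 5 := orderOf_eq_prime hz hz1
        exact he (ho ▸ orderOf_dvd_of_pow_eq_one (sub_eq_zero.mp h0))
      have zero_of : ∀ {e : ℕ} {c : R}, ¬ 5 ∣ e → (z ^ e - 1) * c = 0 → c = 0 := fun he h0 =>
        (mul_eq_zero.mp h0).resolve_left (hne _ he)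
      have x0 : b.x = 0 := zero_of (e := 1) (by decide) (by linear_combination e1)
      have y0 : b.y = 0 := zero_of (e := 1) (by decide) (by linear_combination e2)
      simp only [x0, y0, mul_zero, zero_pow (by norm_num : 3 ≠ 0), zero_pow (by norm_num : 9 ≠ 0),
        zero_mul, add_zero, sub_zero] at e3 e4 e5 e6 e7
      have s10 : b.s₁ = 0 := zero_of (e := 4) (by decide) (by linear_combination e3)
      have s20 : b.s₂ = 0 := zero_of (e := 4) (by decide) (by linear_combination e4)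
      have t10 : b.t₁ = 0 := zero_of (e := 12) (by decide) (by linear_combination e5)
      have t20 : b.t₂ = 0 := zero_of (e := 12) (by decide) (by linear_combination e6)
      simp only [s10, s20, t10, t20, mul_zero, zero_mul, add_zero, sub_zero] at e7
      have u0 : b.u = 0 := zero_of (e := 13) (by decide) (by linear_combination e7)
      refine ⟨5, by simp, (eq_inl (by rw [pow_right, hg5])).trans ?_⟩
      rw [← hbdef, show b = 1 from Uni.ext x0 y0 s10 s20 t10 t20 u0, map_one]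
  · rw [h] at hg'
    refine ⟨12, by simp, ?_⟩
    rw [show 12 = 6 * 2 from rfl, pow_mul, (pow_six_of_two p hz hg' hcard).2, one_pow]
  · obtain ⟨w, hw, hg2⟩ : ∃ w : R, w ^ 5 = 1 ∧
        ∀ a, ((p ^ 2).right : MulAut (Uni R)) a = phi w 2 a := by
      refine ⟨z * z ^ 3 ^ (k % 4), by rw [mul_pow, pow_right_comm, hz, one_pow, one_mul], fun a => ?_⟩
      rw [pow_right, pow_two, Subgroup.coe_mul, MulAut.mul_apply, hg', hg', phi_phi,
        phi_mod hcard, show (k % 4 + k % 4) % 4 = 2 by omega]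
    refine ⟨12, by simp, ?_⟩
    rw [show 12 = 2 * 6 from rfl, pow_mul, (pow_six_of_two _ hw hg2 hcard).2]

theorem orders_occur (hcard : Fintype.card R = 81) :
    ∀ n ∈ [5, 9, 12], ∃ p : Grp R, orderOf p = n ∧ n ≠ 0 := by
  haveI : Fact (Nat.Prime 5) := ⟨by norm_num⟩
  classical
  obtain ⟨z, hz⟩ : ∃ z : Rˣ, orderOf z = 5 :=
    exists_prime_orderOf_dvd_card 5 (by rw [Fintype.card_units, hcard]; norm_num)
  have hz5 : (z : R) ^ 5 = 1 := by
    rw [← Units.val_pow_eq_pow_val, ← hz, pow_orderOf_eq_one, Units.val_one]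
  have hne : ∀ e : ℕ, ¬ 5 ∣ e → (z : R) ^ e ≠ 1 := fun e he h => he (hz ▸
    orderOf_dvd_of_pow_eq_one (Units.ext (by rw [Units.val_pow_eq_pow_val, h, Units.val_one])))
  intro n hn
  simp only [List.mem_cons, List.not_mem_nil, or_false] at hn
  rcases hn with rfl | rfl | rfl
  · obtain ⟨e, he⟩ := exists_aut (z : R) hz5 0
    refine ⟨SemidirectProduct.inr e, ?_, by norm_num⟩
    rw [orderOf_injective _ SemidirectProduct.inr_injective]
    refine orderOf_eq_prime ?_ fun h => ?_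
    · refine Subtype.ext (MulEquiv.ext fun a => ?_)
      simp only [pow_succ, pow_zero, one_mul, Subgroup.coe_mul, MulAut.mul_apply, he, phi_phi,
        pow_one, Subgroup.coe_one, MulAut.one_apply]
      rw [show (z : R) * ((z : R) * ((z : R) * ((z : R) * (z : R)))) = (z : R) ^ 5 by ring, hz5,
        show 0 + 0 + 0 + 0 + 0 = 0 from rfl, phi_one_zero]
    · have := congrArg (fun e : autGroup R =>
        ((e : MulAut (Uni R)) ⟨1, 0, 0, 0, 0, 0, 0⟩).x) h
      simp only [he, phi, OneMemClass.coe_one, MulAut.one_apply, one_pow, mul_one] at this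
      exact hne 1 (by decide) (by rw [pow_one, this])
  · refine ⟨SemidirectProduct.inl (⟨1, z, 0, 0, 0, 0, 0⟩ : Uni R), ?_, by norm_num⟩
    rw [orderOf_injective _ SemidirectProduct.inl_injective]
    refine orderOf_eq_prime_pow (p := 3) (n := 1) ?_ (pow_nine _)
    rw [pow_one, cube_eq]
    intro h
    have h7 := congrArg Uni.u h
    simp only [one_def, one_pow, one_mul, mul_one, sub_eq_zero] at h7
    refine hne 8 (by decide) (mul_left_cancel₀ z.ne_zero ?_)
    rw [← pow_succ', h7, mul_one]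
  · obtain ⟨e, he⟩ := exists_aut (1 : R) (one_pow 5) 1
    obtain ⟨r, hr⟩ : ∃ r : R, r ^ 9 ≠ r := ⟨z, fun h => hne 8 (by decide)
      (mul_left_cancel₀ z.ne_zero (by rw [← pow_succ', h, mul_one]))⟩
    set a : Uni R := ⟨0, 0, 0, 0, 0, 0, 1⟩ with ha
    have hea : (e : MulAut (Uni R)) a = a := by
      rw [he, ha]; ext <;> simp [phi]
    have hc : Commute (SemidirectProduct.inl a : Grp R) (SemidirectProduct.inr e) := by
      refine SemidirectProduct.ext ?_ ?_
      · simp [hea]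
      · simp
    have hoa : orderOf (SemidirectProduct.inl a : Grp R) = 3 := by
      rw [orderOf_injective _ SemidirectProduct.inl_injective]
      refine orderOf_eq_prime ?_ fun h => one_ne_zero (congrArg Uni.u h)
      rw [cube_eq, ha]
      simp [one_def]
    have hoe : orderOf (SemidirectProduct.inr e : Grp R) = 4 := by
      rw [orderOf_injective _ SemidirectProduct.inr_injective]
      haveI : Fact (Nat.Prime 2) := ⟨Nat.prime_two⟩
      refine orderOf_eq_prime_pow (p := 2) (n := 1) ?_ ?_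
      · intro h
        have := congrArg (fun e : autGroup R =>
          ((e : MulAut (Uni R)) ⟨r, 0, 0, 0, 0, 0, 0⟩).x) h
        simp only [pow_one, pow_two, Subgroup.coe_mul, MulAut.mul_apply, he, phi_phi, phi,
          OneMemClass.coe_one, MulAut.one_apply, one_pow, one_mul] at this
        refine hr ?_
        rw [show 9 = 3 * 3 from rfl, pow_mul]
        simpa using this
      · refine Subtype.ext (MulEquiv.ext fun b => ?_)
        simp only [show (2 : ℕ) ^ (1 + 1) = 4 from rfl, pow_succ, pow_zero, one_mul,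
          Subgroup.coe_mul, MulAut.mul_apply, he, phi_phi, one_pow, OneMemClass.coe_one,
          MulAut.one_apply]
        rw [phi_mod hcard]
        exact phi_one_zero b
    refine ⟨SemidirectProduct.inl a * SemidirectProduct.inr e, ?_, by norm_num⟩
    rw [hc.orderOf_mul_eq_mul_orderOf_of_coprime (by rw [hoa, hoe]; decide), hoa, hoe]

/-- A finite solvable group with element orders the divisors of 5, 9 and 12. -/
theorem exists_group :
    ∃ (G : Type) (_ : Group G) (_ : Fintype G), Group.IsSolvable G ∧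
      Set.range (orderOf : G → ℕ) = {d | ∃ n ∈ [5, 9, 12], d ∣ n} := by
  classical
  haveI : Fintype (GaloisField 3 4) := Fintype.ofFinite _
  have hcard : Fintype.card (GaloisField 3 4) = 81 := by
    rw [← Nat.card_eq_fintype_card, GaloisField.card 3 4 (by norm_num)]
    rfl
  refine ⟨Grp (GaloisField 3 4), inferInstance, Fintype.ofFinite _, ?_,
    SpecLie.range_eq_of (exponent_cases hcard) (orders_occur hcard)⟩
  haveI := solvable_autGroup (R := GaloisField 3 4)
  haveI : Group.IsNilpotent (Uni (GaloisField 3 4)) :=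
    IsPGroup.isNilpotent (p := 3) (fun a => ⟨2, pow_nine a⟩)
  refine Group.isSolvable_of_ker_le_range
    (SemidirectProduct.inl : Uni (GaloisField 3 4) →* Grp (GaloisField 3 4))
    SemidirectProduct.rightHom ?_
  rw [SemidirectProduct.range_inl_eq_ker_rightHom]

end Cfsg.Agent.Fus2.SpecTwoFrob
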